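import Mathlib
import Cfsg.Agent.H955.QMinus
import Cfsg.Agent.ClassicalGeometry.WittQuad
set_option linter.all false

/-!
# Witt's lemma for maps, gluing isometries, isometry classes of subspaces

`V` is a nondegenerate quadratic space over a field.
-/

set_option autoImplicit false

namespace Cfsg.Agent.H958

open Module QuadraticMap Cfsg.Agent.LieClassical.OrthCore Cfsg.Agent.LieClassical.OrthTrans
  Cfsg.Agent.H955

variable {F V : Type*} [Field F] [AddCommGroup V] [Module F V] {Q : QuadraticForm F V}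

/-- **Witt's lemma for maps.** -/
theorem witt_maps [FiniteDimensional F V] (hQ : Nondeg Q) {X : Type*} [AddCommGroup X] [Module F X]
    (f f' : X →ₗ[F] V) (hf : Function.Injective f) (hf' : Function.Injective f')
    (h : ∀ x, Q (f' x) = Q (f x)) : ∃ g ∈ O Q, ∀ x, g (f x) = f' x := by
  let e := LinearEquiv.ofInjective f hf
  let e' := LinearEquiv.ofInjective f' hf'
  obtain ⟨g, hg, hg'⟩ := Cfsg.Agent.ClassicalGeometry.WittQuad.extend Q (nondegenerate_of_nondeg hQ)
    (LinearMap.range f) (LinearMap.range f') (e.symm.trans e') (by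
      intro x
      obtain ⟨y, rfl⟩ := e.surjective x
      rw [LinearEquiv.trans_apply, LinearEquiv.symm_apply_apply]
      exact h y)
  refine ⟨g, hg, fun x => ?_⟩
  have h1 := hg' (e x)
  rw [LinearEquiv.trans_apply, LinearEquiv.symm_apply_apply] at h1
  exact h1

/-- Gluing isometries of a nondegenerate subspace and its complement. -/
theorem exists_glue [FiniteDimensional F V] {W : Submodule F V} (hW : Nondeg (res Q W))
    {g : W ≃ₗ[F] W} {g' : perp Q W ≃ₗ[F] perp Q W} (hg : g ∈ O (res Q W))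
    (hg' : g' ∈ O (res Q (perp Q W))) :
    ∃ T ∈ O Q, (∀ w : W, T w = g w) ∧ (∀ w : perp Q W, T w = g' w) := by
  refine ⟨(decomp hW).symm.trans ((LinearEquiv.prodCongr g g').trans (decomp hW)), ?_, ?_, ?_⟩
  · intro v
    obtain ⟨x, rfl⟩ := (decomp hW).surjective v
    rw [LinearEquiv.trans_apply, LinearEquiv.symm_apply_apply, LinearEquiv.trans_apply, Q_decomp, Q_decomp]
    have h1 := hg x.1
    have h2 := hg' x.2
    rw [res_apply, res_apply] at h1 h2
    exact congrArg₂ (· + ·) h1 h2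
  · intro w
    have e : decomp hW (w, 0) = (w : V) := by rw [decomp_apply]; simp
    rw [← e, LinearEquiv.trans_apply, LinearEquiv.symm_apply_apply, LinearEquiv.trans_apply, decomp_apply]
    simp
  · intro w
    have e : decomp hW (0, w) = (w : V) := by rw [decomp_apply]; simp
    rw [← e, LinearEquiv.trans_apply, LinearEquiv.symm_apply_apply, LinearEquiv.trans_apply, decomp_apply]
    simp

/-- Extending an isometry of a nondegenerate subspace by the identity. -/
theorem exists_extend [FiniteDimensional F V] {W : Submodule F V} (hW : Nondeg (res Q W))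
    {g : W ≃ₗ[F] W} (hg : g ∈ O (res Q W)) :
    ∃ T ∈ O Q, (∀ w : W, T w = g w) ∧ (∀ w ∈ perp Q W, T w = w) := by
  obtain ⟨T, hT, h1, h2⟩ := exists_glue hW hg (O (res Q (perp Q W))).one_mem
  exact ⟨T, hT, h1, fun w hw => h2 ⟨w, hw⟩⟩

/-- two linear automorphisms agreeing on a nondegenerate subspace and its complement -/
theorem eq_of_eq_on [FiniteDimensional F V] {W : Submodule F V} (hW : Nondeg (res Q W))
    {S T : V ≃ₗ[F] V} (h1 : ∀ w ∈ W, S w = T w) (h2 : ∀ w ∈ perp Q W, S w = T w) : S = T := by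
  ext v
  obtain ⟨x, rfl⟩ := (decomp hW).surjective v
  rw [decomp_apply, map_add, map_add, h1 _ x.1.2, h2 _ x.2.2]

/-- the power of an extension -/
theorem pow_of_extend [FiniteDimensional F V] {W : Submodule F V} (hW : Nondeg (res Q W))
    {g : W ≃ₗ[F] W} {T : V ≃ₗ[F] V} (h1 : ∀ w : W, T w = g w) (h2 : ∀ w ∈ perp Q W, T w = w) {n : ℕ}
    (hn : g ^ n = 1) : T ^ n = 1 := by
  have hp : ∀ (k : ℕ) (w : W), (T ^ k) w = (g ^ k) w := by
    intro k
    induction k with
    | zero => intro w; rfl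
    | succ k ih => intro w; rw [pow_succ, pow_succ, LinearEquiv.mul_apply, LinearEquiv.mul_apply, h1, ih]
  have hp' : ∀ (k : ℕ), ∀ w ∈ perp Q W, (T ^ k) w = w := by
    intro k w hw
    induction k with
    | zero => rfl
    | succ k ih => rw [pow_succ, LinearEquiv.mul_apply, h2 w hw, ih]
  refine eq_of_eq_on hW (fun w hw => ?_) (fun w hw => ?_)
  · rw [hp n ⟨w, hw⟩, hn]; rfl
  · rw [hp' n w hw]; rfl

theorem mem_map_iff {g : V ≃ₗ[F] V} {W : Submodule F V} {v : V} :
    v ∈ W.map (g : V →ₗ[F] V) ↔ ∃ w ∈ W, g w = v := Iff.rfl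

/-- image of the orthogonal complement -/
theorem perp_map {g : V ≃ₗ[F] V} (hg : g ∈ O Q) (W : Submodule F V) :
    perp Q (W.map (g : V →ₗ[F] V)) = (perp Q W).map (g : V →ₗ[F] V) := by
  ext v
  obtain ⟨u, rfl⟩ := g.surjective v
  constructor
  · intro h
    refine ⟨u, fun w hw => ?_, rfl⟩
    rw [← polar_map hg]
    exact h _ ⟨w, hw, rfl⟩
  · rintro ⟨u', hu', h⟩
    have : u' = u := g.injective h
    subst this
    rintro _ ⟨w, hw, rfl⟩
    change polar Q (g w) (g u') = 0
    rw [polar_map hg]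
    exact hu' w hw

/-- the isometry of `W` onto `g W` -/
noncomputable def mapEquiv (g : V ≃ₗ[F] V) (W : Submodule F V) : W ≃ₗ[F] (W.map (g : V →ₗ[F] V)) :=
  g.submoduleMap W

theorem coe_mapEquiv (g : V ≃ₗ[F] V) (W : Submodule F V) (w : W) : (mapEquiv g W w : V) = g w := rfl

theorem Q_mapEquiv {g : V ≃ₗ[F] V} (hg : g ∈ O Q) (W : Submodule F V) (w : W) :
    res Q (W.map (g : V →ₗ[F] V)) (mapEquiv g W w) = res Q W w := hg w

theorem nondeg_map {g : V ≃ₗ[F] V} (hg : g ∈ O Q) {W : Submodule F V} (hW : Nondeg (res Q W)) :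
    Nondeg (res Q (W.map (g : V →ₗ[F] V))) :=
  nondeg_of_equiv (mapEquiv g W) (Q_mapEquiv hg W) hW

theorem isPlus_map {g : V ≃ₗ[F] V} (hg : g ∈ O Q) (W : Submodule F V) :
    IsPlus (res Q (W.map (g : V →ₗ[F] V))) ↔ IsPlus (res Q W) :=
  (isPlus_iff_of_equiv (mapEquiv g W) (Q_mapEquiv hg W)).symm

theorem finrank_map' (g : V ≃ₗ[F] V) (W : Submodule F V) :
    finrank F (W.map (g : V →ₗ[F] V)) = finrank F W := LinearEquiv.finrank_map_eq g W

/-- isometric subspaces of a nondegenerate space are conjugate -/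
theorem exists_conj [FiniteDimensional F V] (hQ : Nondeg Q) {W W' : Submodule F V} (e : W ≃ₗ[F] W')
    (he : ∀ w, res Q W' (e w) = res Q W w) : ∃ g ∈ O Q, W.map (g : V →ₗ[F] V) = W' := by
  obtain ⟨g, hg, h⟩ := witt_maps hQ W.subtype (W'.subtype ∘ₗ e.toLinearMap) W.injective_subtype
    (W'.injective_subtype.comp e.injective) (fun w => he w)
  refine ⟨g, hg, ?_⟩
  ext v
  constructor
  · rintro ⟨w, hw, rfl⟩
    have : g w = (e ⟨w, hw⟩ : V) := h ⟨w, hw⟩
    change g w ∈ W'
    rw [this]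
    exact (e ⟨w, hw⟩).2
  · intro hv
    refine ⟨e.symm ⟨v, hv⟩, (e.symm ⟨v, hv⟩).2, ?_⟩
    have : g (e.symm ⟨v, hv⟩ : W) = (e (e.symm ⟨v, hv⟩) : V) := h _
    change g (e.symm ⟨v, hv⟩ : W) = v
    rw [this, LinearEquiv.apply_symm_apply]

end Cfsg.Agent.H958
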