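import Mathlib
import Cfsg.Agent.H955.QElt
import Cfsg.Agent.H955.QMinus
import Cfsg.Agent.H958.Wt
import Cfsg.Agent.ClassicalGeometry.Universal
set_option linter.all false

-- part: H958/Blk
section
/-!
# Blocks of isometries of odd prime order: notation

`bk F r` is the dimension of a block, `dl F r j` says that a sum of `j` blocks is of plus type.
-/

set_option autoImplicit false

namespace Cfsg.Agent.H958

open Module QuadraticMap Cfsg.Agent.LieClassical.OrthCore Cfsg.Agent.LieClassical.OrthTrans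
  Cfsg.Agent.H955

universe u v
variable {F : Type u} [Field F]

/-- the order of `|F|` modulo `r` -/
noncomputable def ii (F : Type u) [Field F] (r : ℕ) : ℕ := orderOf (Nat.card F : ZMod r)

/-- the dimension of a minimal block -/
noncomputable def bk (F : Type u) [Field F] (r : ℕ) : ℕ := if Even (ii F r) then ii F r else 2 * ii F r

theorem bk_eq (F : Type u) [Field F] (r : ℕ) : bk F r = cc (Nat.card F) r := rfl

/-- the type of a sum of `j` blocks is plus -/
def dl (F : Type u) [Field F] (r j : ℕ) : Prop := Odd (ii F r) ∨ Even j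

variable [Finite F] {V : Type v} [AddCommGroup V] [Module F V] [FiniteDimensional F V]
  {Q : QuadraticForm F V} {r : ℕ} [Fact r.Prime]

theorem not_dvd_of_ne (hr : (r : F) ≠ 0) : ¬ r ∣ Nat.card F := by
  intro h
  obtain ⟨p, hp⟩ := CharP.exists F
  have : Fintype F := Fintype.ofFinite F
  obtain ⟨n, hpp, hn⟩ := FiniteField.card F p
  rw [Nat.card_eq_fintype_card, hn] at h
  have hrp : r = p := (Nat.prime_dvd_prime_iff_eq Fact.out hpp).1 ((Fact.out : r.Prime).dvd_of_dvd_pow h)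
  apply hr
  rw [hrp]
  exact CharP.cast_eq_zero F p

theorem ii_pos (hr : (r : F) ≠ 0) : 0 < ii F r := orderOf_pos_of_not_dvd (not_dvd_of_ne hr)

theorem bk_pos (hr : (r : F) ≠ 0) : 0 < bk F r := by
  have := ii_pos hr
  unfold bk
  split_ifs <;> omega

omit [Finite F] [Fact r.Prime] in
theorem bk_even (F : Type u) [Field F] (r : ℕ) : Even (bk F r) := by
  unfold bk
  split_ifs with h
  · exact h
  · exact even_two_mul _

theorem J1 (hr2 : 2 < r) (hr : (r : F) ≠ 0) (hQ : Nondeg Q) {T : V ≃ₗ[F] V} (hT : T ∈ O Q)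
    (hTr : T ^ r = 1) (hf : fixS T = ⊥) : ∃ t, finrank F V = bk F r * t ∧ (IsPlus Q ↔ dl F r t) := by
  have hc : comS T = ⊤ := by
    apply Submodule.eq_top_of_finrank_eq
    have h4 := finrank_fixS_add_comS T
    rw [hf, finrank_bot, zero_add] at h4
    exact h4
  obtain ⟨-, t, ht, htp⟩ := blocks_of_comS hQ hT hr2 (not_dvd_of_ne hr) hTr
  refine ⟨t, ?_, ?_⟩
  · rw [bk_eq, ← ht, hc, finrank_top]
  · rw [dl, ii, ← htp, hc]
    exact isPlus_iff_of_equiv (LinearEquiv.ofTop ⊤ rfl).symm (fun _ => rfl)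

theorem J2 (hr2 : 2 < r) (hr : (r : F) ≠ 0) (hQ : Nondeg Q) {T : V ≃ₗ[F] V} (hT : T ∈ O Q)
    (hTr : T ^ r = 1) (hf : fixS T = ⊥) (s : ℕ) (hs : bk F r * s ≤ finrank F V) :
    ∃ B : Submodule F V, (∀ b ∈ B, T b ∈ B) ∧ Nondeg (res Q B) ∧ finrank F B = bk F r * s := by
  obtain ⟨D, -, h1, h2, h3, -⟩ := exists_blocks_quad (W := ⊤) hT hr2 (not_dvd_of_ne hr) hTr
    (fun _ _ => trivial) (nondeg_of_equiv (LinearEquiv.ofTop ⊤ rfl).symm (fun _ => rfl) hQ)
    (fun w _ h => by
      have : w ∈ fixS T := mem_fixS.2 h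
      rw [hf] at this
      exact (Submodule.mem_bot F).1 this) s (by rw [finrank_top]; exact hs)
  exact ⟨D, h1, h2, h3⟩

theorem J3 (hr2 : 2 < r) (hr : (r : F) ≠ 0) (hQ : Nondeg Q) (s : ℕ) (hd : finrank F V = bk F r * s)
    (hp : IsPlus Q ↔ dl F r s) : ∃ T ∈ O Q, T ^ r = 1 ∧ fixS T = ⊥ := by
  obtain ⟨T, hT, hTr, hf⟩ := exists_free hr2 (not_dvd_of_ne hr) s hQ hd hp
  refine ⟨T, hT, hTr, ?_⟩
  rw [Submodule.eq_bot_iff]
  intro v hv
  exact hf v (mem_fixS.1 hv)

end Cfsg.Agent.H958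
end

-- part: H958/NdMain
section
/-!
# Isometries of odd prime order and nondegenerate subspaces
-/

set_option autoImplicit false

namespace Cfsg.Agent.H958

open Module QuadraticMap Cfsg.Agent.LieClassical.OrthCore Cfsg.Agent.LieClassical.OrthTrans
  Cfsg.Agent.H955

universe u v
variable {F : Type u} [Field F]

section Base

variable {V : Type v} [AddCommGroup V] [Module F V] {Q : QuadraticForm F V}

/-- `X` contains `j` mutually orthogonal blocks. -/
def Fits (Q : QuadraticForm F V) (r : ℕ) (X : Submodule F V) (j : ℕ) : Prop :=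
  ∃ B : Submodule F V, B ≤ X ∧ Nondeg (res Q B) ∧ finrank F B = bk F r * j ∧
    (IsPlus (res Q B) ↔ dl F r j)

theorem fixS_le_perp {T : V ≃ₗ[F] V} (hT : T ∈ O Q) : fixS T ≤ perp Q (comS T) := by
  intro v hv w hw
  exact ortho_fixS_comS (fun a b => polar Q a b) (fun a b c => polar_sub_left Q a b c)
    (fun a b => polar_map hT a b) hw hv

variable [FiniteDimensional F V]

theorem perp_comS_eq (hQ : Nondeg Q) {T : V ≃ₗ[F] V} (hT : T ∈ O Q) : perp Q (comS T) = fixS T := by
  symm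
  apply Submodule.eq_of_le_of_finrank_eq (fixS_le_perp hT)
  have h1 := finrank_add_perp hQ (comS T)
  have h2 := finrank_fixS_add_comS T
  omega

theorem nondeg_comS (hQ : Nondeg Q) {T : V ≃ₗ[F] V} (hT : T ∈ O Q) {r : ℕ} (hr : (r : F) ≠ 0)
    (hTr : T ^ r = 1) : Nondeg (res Q (comS T)) := by
  rw [nondeg_res_iff]
  intro x hx hxy
  have h1 : x ∈ perp Q (comS T) := mem_perp'.2 hxy
  rw [perp_comS_eq hQ hT] at h1
  exact Submodule.disjoint_def.1 (disjoint_fixS_comS hr hTr) x h1 hx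

theorem resT_mem {T : V ≃ₗ[F] V} (hT : T ∈ O Q) {W : Submodule F V} (h : ∀ w ∈ W, T w ∈ W) :
    resT T W h ∈ O (res Q W) := fun w => hT w

theorem map_mem_perp {T : V ≃ₗ[F] V} (hT : T ∈ O Q) {W : Submodule F V} (h : ∀ w ∈ W, T w ∈ W) :
    ∀ v ∈ perp Q W, T v ∈ perp Q W := by
  intro v hv w hw
  have h1 : w ∈ W.map (T : V →ₗ[F] V) := by rw [map_eq_of_le T W h]; exact hw
  obtain ⟨u, hu, rfl⟩ := h1
  change polar Q (T u) (T v) = 0
  rw [polar_map hT]
  exact hv u hu

/-- `comS` of the restriction -/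
theorem map_comS_resT {T : V ≃ₗ[F] V} {W : Submodule F V} (h : ∀ w ∈ W, T w ∈ W) :
    (comS (resT T W h)).map W.subtype ≤ comS T := by
  rintro _ ⟨v, hv, rfl⟩
  obtain ⟨w, rfl⟩ := mem_comS.1 hv
  exact mem_comS.2 ⟨w, rfl⟩

theorem fixS_resT_eq_bot {T : V ≃ₗ[F] V} {r : ℕ} (hr : (r : F) ≠ 0) (hTr : T ^ r = 1)
    {W : Submodule F V} (h : ∀ w ∈ W, T w ∈ W) (hW : W ≤ comS T) : fixS (resT T W h) = ⊥ := by
  rw [Submodule.eq_bot_iff]
  intro v hv
  apply Subtype.ext
  have h1 : T (v : V) = v := congrArg Subtype.val (mem_fixS.1 hv)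
  exact Submodule.disjoint_def.1 (disjoint_fixS_comS hr hTr) _ (mem_fixS.2 h1) (hW v.2)

omit [FiniteDimensional F V] in
/-- the restriction of the form to a subspace of a subspace -/
theorem exists_res_equiv (W : Submodule F V) (B : Submodule F W) :
    ∃ e : B ≃ₗ[F] (B.map W.subtype), ∀ b, res Q (B.map W.subtype) (e b) = res (res Q W) B b :=
  ⟨Submodule.equivSubtypeMap W B, fun _ => rfl⟩

omit [FiniteDimensional F V] in
/-- subspaces of a subspace -/
theorem exists_comap_equiv {W B : Submodule F V} (h : B ≤ W) :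
    ∃ e : (B.comap W.subtype) ≃ₗ[F] B, ∀ b, res Q B (e b) = res (res Q W) (B.comap W.subtype) b :=
  ⟨Submodule.comapSubtypeEquivOfLe h, fun _ => rfl⟩

end Base

section Main

variable [Finite F] {V : Type v} [AddCommGroup V] [Module F V] [FiniteDimensional F V]
  {Q : QuadraticForm F V} {r : ℕ} [Fact r.Prime]

theorem comS_props (hr2 : 2 < r) (hr : (r : F) ≠ 0) (hQ : Nondeg Q) {T : V ≃ₗ[F] V} (hT : T ∈ O Q)
    (hTr : T ^ r = 1) :
    ∃ t, finrank F (comS T) = bk F r * t ∧ (IsPlus (res Q (comS T)) ↔ dl F r t) := by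
  have h : ∀ w ∈ comS T, T w ∈ comS T := fun w hw => map_mem_comS hw
  exact J1 hr2 hr (nondeg_comS hQ hT hr hTr) (resT_mem hT h) (resT_pow_eq_one hTr)
    (fixS_resT_eq_bot hr hTr h le_rfl)

/-- the type of an invariant nondegenerate subspace of `comS T` -/
theorem inv_props (hr2 : 2 < r) (hr : (r : F) ≠ 0) {T : V ≃ₗ[F] V} (hT : T ∈ O Q)
    (hTr : T ^ r = 1) {B : Submodule F V} (hB : B ≤ comS T) (hBT : ∀ b ∈ B, T b ∈ B)
    (hBn : Nondeg (res Q B)) :
    ∃ t, finrank F B = bk F r * t ∧ (IsPlus (res Q B) ↔ dl F r t) :=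
  J1 hr2 hr hBn (resT_mem hT hBT) (resT_pow_eq_one hTr) (fixS_resT_eq_bot hr hTr hBT hB)

theorem exists_inv (hr2 : 2 < r) (hr : (r : F) ≠ 0) (hQ : Nondeg Q) {T : V ≃ₗ[F] V} (hT : T ∈ O Q)
    (hTr : T ^ r = 1) {j : ℕ} (hj : bk F r * j ≤ finrank F (comS T)) :
    ∃ B ≤ comS T, (∀ b ∈ B, T b ∈ B) ∧ Nondeg (res Q B) ∧ finrank F B = bk F r * j ∧
      (IsPlus (res Q B) ↔ dl F r j) := by
  have h : ∀ w ∈ comS T, T w ∈ comS T := fun w hw => map_mem_comS hw
  obtain ⟨B, hB1, hB2, hB3⟩ := J2 hr2 hr (nondeg_comS hQ hT hr hTr) (resT_mem hT h)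
    (resT_pow_eq_one hTr) (fixS_resT_eq_bot hr hTr h le_rfl) j hj
  obtain ⟨e, he⟩ := exists_res_equiv (Q := Q) (comS T) B
  have hle : B.map (comS T).subtype ≤ comS T := Submodule.map_subtype_le _ _
  have hinv : ∀ b ∈ B.map (comS T).subtype, T b ∈ B.map (comS T).subtype := by
    rintro _ ⟨b, hb, rfl⟩
    exact ⟨_, hB1 b hb, rfl⟩
  have hnd : Nondeg (res Q (B.map (comS T).subtype)) := nondeg_of_equiv e he hB2
  obtain ⟨t, ht1, ht2⟩ := inv_props hr2 hr hT hTr hle hinv hnd
  have hd : finrank F (B.map (comS T).subtype) = bk F r * j := by rw [← hB3, e.finrank_eq]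
  have htj : t = j := Nat.eq_of_mul_eq_mul_left (bk_pos hr) (ht1.symm.trans hd)
  rw [htj] at ht2
  exact ⟨_, hle, hinv, hnd, hd, ht2⟩

/-- The main step: if `W` and `W^⊥` have room for the blocks of `T`, then `T` fixes a conjugate of `W`. -/
theorem fix_of_fits (hr2 : 2 < r) (hr : (r : F) ≠ 0) (hQ : Nondeg Q) {W : Submodule F V}
    {T : V ≃ₗ[F] V} (hT : T ∈ O Q) (hTr : T ^ r = 1) {a b : ℕ}
    (hab : finrank F (comS T) = bk F r * (a + b)) (ha : Fits Q r W a) (hb : Fits Q r (perp Q W) b) :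
    ∃ g ∈ O Q, ∀ v ∈ W.map (g : V →ₗ[F] V), T v ∈ W.map (g : V →ₗ[F] V) := by
  obtain ⟨B₁, hB₁, hB₁T, hB₁n, hB₁d, hB₁p⟩ := exists_inv hr2 hr hQ hT hTr (j := a) (by
    rw [hab]; exact Nat.mul_le_mul_left _ (Nat.le_add_right _ _))
  -- the second part
  have hcn := nondeg_comS hQ hT hr hTr
  set B₂ : Submodule F V := perp Q B₁ ⊓ comS T with hB₂def
  have hsup : B₁ ⊔ B₂ = comS T := by
    rw [hB₂def, ← sup_inf_assoc_of_le _ hB₁, (isCompl_perp hB₁n).sup_eq_top, top_inf_eq]
  have hB₂n : Nondeg (res Q B₂) := by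
    rw [nondeg_res_iff]
    intro x hx hxy
    refine nondeg_res_iff.1 hcn x hx.2 fun y hy => ?_
    rw [← hsup] at hy
    obtain ⟨y₁, hy₁, y₂, hy₂, rfl⟩ := Submodule.mem_sup.1 hy
    rw [polar_add_right, mem_perp'.1 hx.1 y₁ hy₁, hxy y₂ hy₂, add_zero]
  have hB₂T : ∀ v ∈ B₂, T v ∈ B₂ := fun v hv => ⟨map_mem_perp hT hB₁T v hv.1, map_mem_comS hv.2⟩
  obtain ⟨t, ht, htp⟩ := inv_props hr2 hr hT hTr (inf_le_right : B₂ ≤ comS T) hB₂T hB₂n
  have hdim : finrank F B₁ + finrank F B₂ = finrank F (comS T) := by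
    have h1 := Submodule.finrank_sup_add_finrank_inf_eq B₁ B₂
    have h2 : B₁ ⊓ B₂ = ⊥ := by
      rw [eq_bot_iff, ← (isCompl_perp hB₁n).inf_eq_bot]
      exact inf_le_inf le_rfl inf_le_left
    rw [h2, finrank_bot, add_zero, hsup] at h1
    exact h1.symm
  have htb : t = b := by
    rw [hB₁d, ht, hab, ← mul_add] at hdim
    have := Nat.eq_of_mul_eq_mul_left (bk_pos hr) hdim
    omega
  subst htb
  obtain ⟨C₁, hC₁, hC₁n, hC₁d, hC₁p⟩ := ha
  obtain ⟨C₂, hC₂, hC₂n, hC₂d, hC₂p⟩ := hb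
  obtain ⟨e₁, he₁⟩ := exists_equiv_of_isPlus_iff (Q := res Q C₁) (Q' := res Q B₁) hC₁n hB₁n
    (by rw [hC₁d]; exact (bk_even F r).mul_right _) (by rw [hC₁d, hB₁d]) (hC₁p.trans hB₁p.symm)
  obtain ⟨e₂, he₂⟩ := exists_equiv_of_isPlus_iff (Q := res Q C₂) (Q' := res Q B₂) hC₂n hB₂n
    (by rw [hC₂d]; exact (bk_even F r).mul_right _) (by rw [hC₂d, ht]) (hC₂p.trans htp.symm)
  have hC12 : ∀ x ∈ C₁, ∀ y ∈ C₂, polar Q x y = 0 := fun x hx y hy => hC₂ hy x (hC₁ hx)
  have hB12 : ∀ x ∈ B₁, ∀ y ∈ B₂, polar Q x y = 0 := fun x hx y hy => hy.1 x hx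
  let f : C₁ × C₂ →ₗ[F] V := LinearMap.coprod C₁.subtype C₂.subtype
  let f' : C₁ × C₂ →ₗ[F] V := LinearMap.coprod (B₁.subtype ∘ₗ e₁.toLinearMap) (B₂.subtype ∘ₗ e₂.toLinearMap)
  have hfa : ∀ x, f x = (x.1 : V) + (x.2 : V) := fun x => rfl
  have hfa' : ∀ x, f' x = (e₁ x.1 : V) + (e₂ x.2 : V) := fun x => rfl
  have hf : Function.Injective f := by
    rw [← LinearMap.ker_eq_bot, LinearMap.ker_eq_bot']
    intro x hx
    rw [hfa] at hx
    have h1 : (x.1 : V) = -(x.2 : V) := by rw [eq_neg_iff_add_eq_zero]; exact hx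
    have h2 : (x.1 : V) = 0 := by
      refine nondeg_res_iff.1 hC₁n _ x.1.2 fun y hy => ?_
      rw [h1, polar_neg_left, polar_comm, hC12 y hy _ x.2.2, neg_zero]
    have h3 : (x.2 : V) = 0 := by
      rw [h2, zero_add] at hx; exact hx
    exact Prod.ext (Subtype.ext h2) (Subtype.ext h3)
  have hf' : Function.Injective f' := by
    rw [← LinearMap.ker_eq_bot, LinearMap.ker_eq_bot']
    intro x hx
    rw [hfa'] at hx
    have h1 : (e₁ x.1 : V) = -(e₂ x.2 : V) := by rw [eq_neg_iff_add_eq_zero]; exact hx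
    have h2 : (e₁ x.1 : V) = 0 := by
      refine nondeg_res_iff.1 hB₁n _ (e₁ x.1).2 fun y hy => ?_
      rw [h1, polar_neg_left, polar_comm, hB12 y hy _ (e₂ x.2).2, neg_zero]
    have h3 : (e₂ x.2 : V) = 0 := by
      rw [h2, zero_add] at hx; exact hx
    refine Prod.ext ?_ ?_
    · apply e₁.injective
      rw [Prod.fst_zero, map_zero]
      exact Subtype.ext h2
    · apply e₂.injective
      rw [Prod.snd_zero, map_zero]
      exact Subtype.ext h3
  obtain ⟨g, hg, hgf⟩ := witt_maps hQ f f' hf hf' (by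
    intro x
    rw [hfa, hfa', Q_add, Q_add, hC12 _ x.1.2 _ x.2.2, hB12 _ (e₁ x.1).2 _ (e₂ x.2).2]
    have h1 := he₁ x.1
    have h2 := he₂ x.2
    rw [res_apply, res_apply] at h1 h2
    rw [h1, h2])
  refine ⟨g, hg, ?_⟩
  rintro _ ⟨w, hw, rfl⟩
  change T (g w) ∈ _
  -- `w = c + u` with `c ∈ C₁` and `u ∈ W ⊓ C₁^⊥`
  obtain ⟨c, hc, u, hu, rfl⟩ : ∃ c ∈ C₁, ∃ u ∈ perp Q C₁ ⊓ W, c + u = w := by
    have : w ∈ C₁ ⊔ (perp Q C₁ ⊓ W) := by
      rw [← sup_inf_assoc_of_le _ hC₁, (isCompl_perp hC₁n).sup_eq_top, top_inf_eq]; exact hw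
    exact Submodule.mem_sup.1 this
  have hgc : g c = (e₁ ⟨c, hc⟩ : V) := by
    have := hgf (⟨c, hc⟩, 0)
    rw [hfa, hfa'] at this
    simpa using this
  -- `g u` is fixed by `T`
  have hgu : T (g u) = g u := by
    rw [← mem_fixS, ← perp_comS_eq hQ hT]
    intro y hy
    rw [← hsup] at hy
    obtain ⟨y₁, hy₁, y₂, hy₂, rfl⟩ := Submodule.mem_sup.1 hy
    have h1 : g (e₁.symm ⟨y₁, hy₁⟩ : C₁) = y₁ := by
      have := hgf (e₁.symm ⟨y₁, hy₁⟩, 0)
      rw [hfa, hfa'] at this
      simpa using this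
    have h2 : g (e₂.symm ⟨y₂, hy₂⟩ : C₂) = y₂ := by
      have := hgf (0, e₂.symm ⟨y₂, hy₂⟩)
      rw [hfa, hfa'] at this
      simpa using this
    rw [polar_add_left, ← h1, ← h2, polar_map hg, polar_map hg, hu.1 _ (e₁.symm ⟨y₁, hy₁⟩).2,
      mem_perp'.1 (hC₂ (e₂.symm ⟨y₂, hy₂⟩).2) u hu.2, add_zero]
  -- `T (g c) ∈ B₁ = g C₁`
  have h3 : T (g c) ∈ B₁ := by rw [hgc]; exact hB₁T _ (e₁ ⟨c, hc⟩).2
  have h4 : g (e₁.symm ⟨T (g c), h3⟩ : C₁) = T (g c) := by
    have := hgf (e₁.symm ⟨T (g c), h3⟩, 0)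
    rw [hfa, hfa'] at this
    simpa using this
  refine ⟨(e₁.symm ⟨T (g c), h3⟩ : C₁) + u, W.add_mem (hC₁ (e₁.symm ⟨T (g c), h3⟩).2) hu.2, ?_⟩
  change g _ = _
  rw [map_add, map_add, map_add, h4, hgu]

/-- Conversely, an invariant `W` and its complement share the blocks of `T`. -/
theorem fits_of_fix (hr2 : 2 < r) (hr : (r : F) ≠ 0) (hQ : Nondeg Q) {W : Submodule F V}
    (hW : Nondeg (res Q W)) {T : V ≃ₗ[F] V} (hT : T ∈ O Q) (hTr : T ^ r = 1)
    (hTW : ∀ v ∈ W, T v ∈ W) :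
    ∃ a b, finrank F (comS T) = bk F r * (a + b) ∧ Fits Q r W a ∧ Fits Q r (perp Q W) b := by
  have hTW' := map_mem_perp hT hTW
  have hW' := nondeg_perp hQ hW
  have key : ∀ (X : Submodule F V), Nondeg (res Q X) → ∀ (h : ∀ v ∈ X, T v ∈ X),
      ∃ a, finrank F ((comS (resT T X h)).map X.subtype) = bk F r * a ∧ Fits Q r X a := by
    intro X hX h
    obtain ⟨a, ha, hap⟩ := comS_props hr2 hr hX (resT_mem hT h) (resT_pow_eq_one hTr)
    obtain ⟨e, he⟩ := exists_res_equiv (Q := Q) X (comS (resT T X h))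
    have hd : finrank F ((comS (resT T X h)).map X.subtype) = bk F r * a := by rw [← ha, e.finrank_eq]
    refine ⟨a, hd, _, Submodule.map_subtype_le _ _, ?_, hd, ?_⟩
    · exact nondeg_of_equiv e he (nondeg_comS hX (resT_mem hT h) hr (resT_pow_eq_one hTr))
    · rw [← hap]
      exact (isPlus_iff_of_equiv e he).symm
  obtain ⟨a, ha, hfa⟩ := key W hW hTW
  obtain ⟨b, hb, hfb⟩ := key (perp Q W) hW' hTW'
  refine ⟨a, b, ?_, hfa, hfb⟩
  rw [mul_add, ← ha, ← hb]
  have hinf : (comS (resT T W hTW)).map W.subtype ⊓ (comS (resT T (perp Q W) hTW')).map (perp Q W).subtype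
      = ⊥ := by
    rw [eq_bot_iff, ← (isCompl_perp hW).inf_eq_bot]
    exact inf_le_inf (Submodule.map_subtype_le _ _) (Submodule.map_subtype_le _ _)
  have hsup : (comS (resT T W hTW)).map W.subtype ⊔ (comS (resT T (perp Q W) hTW')).map (perp Q W).subtype
      = comS T := by
    apply le_antisymm
    · exact sup_le (map_comS_resT hTW) (map_comS_resT hTW')
    · intro v hv
      obtain ⟨w, rfl⟩ := mem_comS.1 hv
      obtain ⟨⟨x, y⟩, rfl⟩ := (decomp hW).surjective w
      rw [decomp_apply, map_add, add_sub_add_comm]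
      refine Submodule.add_mem_sup ⟨resT T W hTW x - x, mem_comS.2 ⟨x, rfl⟩, rfl⟩
        ⟨resT T (perp Q W) hTW' y - y, mem_comS.2 ⟨y, rfl⟩, rfl⟩
  have h1 := Submodule.finrank_sup_add_finrank_inf_eq ((comS (resT T W hTW)).map W.subtype)
    ((comS (resT T (perp Q W) hTW')).map (perp Q W).subtype)
  rw [hinf, finrank_bot, add_zero, hsup] at h1
  exact h1

theorem fits_zero (r : ℕ) (X : Submodule F V) : Fits Q r X 0 := by
  refine ⟨⊥, bot_le, ?_, by rw [finrank_bot, mul_zero], ?_⟩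
  · rw [nondeg_res_iff]
    intro x hx _
    exact (Submodule.mem_bot F).1 hx
  · exact iff_of_true (isPlus_of_finrank_zero (finrank_bot F V)) (Or.inr (by decide))

/-- Fitting blocks: smaller numbers of blocks fit too. -/
theorem fits_mono (hr : (r : F) ≠ 0) {X : Submodule F V} {j j' : ℕ} (hj : j' ≤ j)
    (h : Fits Q r X j) : Fits Q r X j' := by
  rcases Nat.eq_or_lt_of_le hj with rfl | hlt
  · exact h
  rcases Nat.eq_zero_or_pos j' with rfl | hpos
  · exact fits_zero r X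
  obtain ⟨B, hB, hBn, hBd, -⟩ := h
  obtain ⟨k, hk⟩ := bk_even F r
  have hc := bk_pos (F := F) (r := r) hr
  have hmul : bk F r * j' < bk F r * j := Nat.mul_lt_mul_of_pos_left hlt hc
  have hck : bk F r * j' = 2 * (k * j') := by rw [hk]; ring
  obtain ⟨C, hCn, hCd, hCp⟩ := exists_subspace (Q := res Q B) hBn
    (by rw [hBd]; exact (bk_even F r).mul_right _) (k * j')
    (Nat.mul_pos (by omega) hpos) (by rw [hBd, ← hck]; exact hmul) (dl F r j')
  obtain ⟨e, he⟩ := exists_res_equiv (Q := Q) B C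
  refine ⟨C.map B.subtype, (Submodule.map_subtype_le _ _).trans hB, nondeg_of_equiv e he hCn, ?_, ?_⟩
  · rw [← e.finrank_eq, hCd, hck]
  · rw [← hCp]
    exact (isPlus_iff_of_equiv e he).symm

omit [Finite F] [Fact r.Prime] in
theorem Fits.le {X : Submodule F V} {j : ℕ} (h : Fits Q r X j) : bk F r * j ≤ finrank F X := by
  obtain ⟨B, hB, -, hBd, -⟩ := h
  rw [← hBd]
  exact Submodule.finrank_mono hB

omit [Finite F] [FiniteDimensional F V] [Fact r.Prime] in
theorem Fits.of_le {X Y : Submodule F V} {j : ℕ} (h : Fits Q r X j) (hXY : X ≤ Y) : Fits Q r Y j := by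
  obtain ⟨B, hB, h'⟩ := h
  exact ⟨B, hB.trans hXY, h'⟩

/-- The numerical criterion in even dimension. -/
theorem fits_iff_even (hr : (r : F) ≠ 0) {X : Submodule F V} (hX : Nondeg (res Q X))
    (hXe : Even (finrank F X)) {j : ℕ} :
    Fits Q r X j ↔ j = 0 ∨ bk F r * j < finrank F X ∨
      (bk F r * j = finrank F X ∧ (IsPlus (res Q X) ↔ dl F r j)) := by
  constructor
  · intro h
    rcases Nat.eq_or_lt_of_le h.le with h1 | h1
    · obtain ⟨B, hB, -, hBd, hBp⟩ := h
      have : B = X := Submodule.eq_of_le_of_finrank_eq hB (hBd.trans h1)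
      subst this
      exact Or.inr (Or.inr ⟨h1, hBp⟩)
    · exact Or.inr (Or.inl h1)
  · rintro (rfl | h | ⟨h1, h2⟩)
    · exact fits_zero r X
    · rcases Nat.eq_zero_or_pos j with rfl | hpos
      · exact fits_zero r X
      obtain ⟨k, hk⟩ := bk_even F r
      have hc := bk_pos (F := F) (r := r) hr
      have hck : bk F r * j = 2 * (k * j) := by rw [hk]; ring
      obtain ⟨C, hCn, hCd, hCp⟩ := exists_subspace (Q := res Q X) hX hXe (k * j)
        (Nat.mul_pos (by omega) hpos) (by rw [← hck]; exact h) (dl F r j)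
      obtain ⟨e, he⟩ := exists_res_equiv (Q := Q) X C
      refine ⟨C.map X.subtype, (Submodule.map_subtype_le _ _), nondeg_of_equiv e he hCn, ?_, ?_⟩
      · rw [← e.finrank_eq, hCd, hck]
      · rw [← hCp]
        exact (isPlus_iff_of_equiv e he).symm
    · exact ⟨X, le_rfl, hX, h1.symm, h2⟩

end Main

end Cfsg.Agent.H958
end

-- part: H958/Syl
section
/-!
# Sylow subgroups of orthogonal groups and the number of subspaces in an isometry class
-/

set_option autoImplicit false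

namespace Cfsg.Agent.H958

open Module QuadraticMap Cfsg.Agent.LieClassical.OrthCore Cfsg.Agent.LieClassical.OrthTrans
  Cfsg.Agent.H955

universe u v
variable {F : Type u} [Field F]

section

variable {V : Type v} [AddCommGroup V] [Module F V] {Q : QuadraticForm F V}

/-- The sum of two orthogonal nondegenerate subspaces as an orthogonal sum of forms. -/
theorem exists_sup_equiv [FiniteDimensional F V] {A B : Submodule F V} (hA : Nondeg (res Q A))
    (h : B ≤ perp Q A) :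
    ∃ e : (A × B) ≃ₗ[F] ↥(A ⊔ B), ∀ x, res Q (A ⊔ B) (e x) = osum (res Q A) (res Q B) x := by
  let f : A × B →ₗ[F] V := LinearMap.coprod A.subtype B.subtype
  have hfa : ∀ x, f x = (x.1 : V) + (x.2 : V) := fun x => rfl
  have hdis : A ⊓ B = ⊥ := by
    rw [eq_bot_iff, ← (isCompl_perp hA).inf_eq_bot]
    exact inf_le_inf le_rfl h
  have hf : Function.Injective f := by
    rw [← LinearMap.ker_eq_bot, LinearMap.ker_eq_bot']
    intro x hx
    rw [hfa] at hx
    have h1 : (x.1 : V) = -(x.2 : V) := by rw [eq_neg_iff_add_eq_zero]; exact hx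
    have h2 : (x.1 : V) = 0 := by
      rw [← Submodule.mem_bot F, ← hdis]
      exact ⟨x.1.2, by rw [h1]; exact B.neg_mem x.2.2⟩
    have h3 : (x.2 : V) = 0 := by
      rw [h2, zero_add] at hx; exact hx
    exact Prod.ext (Subtype.ext h2) (Subtype.ext h3)
  have hr : LinearMap.range f = A ⊔ B := by
    rw [LinearMap.range_coprod, Submodule.range_subtype, Submodule.range_subtype]
  refine ⟨(LinearEquiv.ofInjective f hf).trans (LinearEquiv.ofEq _ _ hr), ?_⟩
  intro x
  change Q (f x) = _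
  rw [hfa, osum_apply, Q_add_of_perp x.1.2 (h x.2.2)]
  rfl

theorem nondeg_sup [FiniteDimensional F V] {A B : Submodule F V} (hA : Nondeg (res Q A))
    (hB : Nondeg (res Q B)) (h : B ≤ perp Q A) : Nondeg (res Q (A ⊔ B)) := by
  obtain ⟨e, he⟩ := exists_sup_equiv hA h
  exact nondeg_of_equiv e he (nondeg_osum hA hB)

theorem finrank_sup_perp [FiniteDimensional F V] {A B : Submodule F V} (hA : Nondeg (res Q A))
    (h : B ≤ perp Q A) : finrank F ↥(A ⊔ B) = finrank F A + finrank F B := by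
  obtain ⟨e, he⟩ := exists_sup_equiv hA h
  rw [← e.finrank_eq, Module.finrank_prod]

theorem isPlus_sup_iff [Finite F] [FiniteDimensional F V] {A B : Submodule F V} (hA : Nondeg (res Q A))
    (hB : Nondeg (res Q B)) (h : B ≤ perp Q A) (hAe : Even (finrank F A)) (hBe : Even (finrank F B)) :
    IsPlus (res Q (A ⊔ B)) ↔ (IsPlus (res Q A) ↔ IsPlus (res Q B)) := by
  obtain ⟨e, he⟩ := exists_sup_equiv hA h
  rw [← isPlus_iff_of_equiv e he, isPlus_osum_iff hA hB hAe hBe]

end

theorem dl_add (F : Type u) [Field F] (r a b : ℕ) : dl F r (a + b) ↔ (dl F r a ↔ dl F r b) := by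
  unfold dl
  rw [Nat.even_add]
  tauto

variable [Finite F] {r : ℕ} [Fact r.Prime]

/-- Splitting for an `r`-group of isometries. -/
theorem group_split (hr2 : 2 < r) (hr : (r : F) ≠ 0) {G : Type*} [Group G] [Finite G] (hG : IsPGroup r G)
    (n : ℕ) : ∀ {V : Type v} [AddCommGroup V] [Module F V] [FiniteDimensional F V]
    {Q : QuadraticForm F V}, Nondeg Q → ∀ (ρ : G →* (V ≃ₗ[F] V)), (∀ g, ρ g ∈ O Q) → finrank F V = n →
    ∃ X : Submodule F V, Nondeg (res Q X) ∧ (∀ g, ∀ v ∈ perp Q X, ρ g v = v) ∧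
      ∃ t, finrank F X = bk F r * t ∧ (IsPlus (res Q X) ↔ dl F r t) := by
  induction n using Nat.strong_induction_on with
  | _ n ih =>
  intro V _ _ _ Q hQ ρ hρ hn
  by_cases htriv : ∀ g, ρ g = 1
  · refine ⟨⊥, ?_, fun g v _ => by rw [htriv]; rfl, 0, by rw [finrank_bot, mul_zero], ?_⟩
    · rw [nondeg_res_iff]
      intro x hx _
      exact (Submodule.mem_bot F).1 hx
    · exact iff_of_true (isPlus_of_finrank_zero (finrank_bot F V)) (Or.inr (by decide))
  push Not at htriv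
  obtain ⟨g₀, hg₀⟩ := htriv
  -- a central element of order `r` of the image
  have hR : IsPGroup r ρ.range := hG.of_surjective ρ.rangeRestrict ρ.rangeRestrict_surjective
  have : Nontrivial ρ.range := ⟨⟨⟨ρ g₀, g₀, rfl⟩, 1, fun h => hg₀ (congrArg Subtype.val h)⟩⟩
  have : Finite ρ.range := Finite.of_surjective _ ρ.rangeRestrict_surjective
  have hZ : Nontrivial (Subgroup.center ρ.range) := hR.center_nontrivial
  have hZp : IsPGroup r (Subgroup.center ρ.range) := hR.to_subgroup _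
  obtain ⟨k, hk0, hk⟩ := hZp.nontrivial_iff_card.1 hZ
  obtain ⟨z, hz⟩ := exists_prime_orderOf_dvd_card' (G := Subgroup.center ρ.range) r
    (by rw [hk]; exact dvd_pow_self r (by omega))
  obtain ⟨z₁, hz₁⟩ := z
  obtain ⟨T, hT⟩ := z₁
  have hTr : T ^ r = 1 := by
    have h1 : (⟨⟨T, hT⟩, hz₁⟩ : Subgroup.center ρ.range) ^ r = 1 := by rw [← hz]; exact pow_orderOf_eq_one _
    exact congrArg (fun x : Subgroup.center ρ.range => ((x : ρ.range) : V ≃ₗ[F] V)) h1
  have hT1 : T ≠ 1 := by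
    rintro rfl
    have h2 : (⟨⟨1, hT⟩, hz₁⟩ : Subgroup.center ρ.range) = 1 := rfl
    rw [h2, orderOf_one] at hz
    omega
  have hcomm : ∀ g, ∀ v, T (ρ g v) = ρ g (T v) := by
    intro g v
    have h1 := (Subgroup.mem_center_iff.1 hz₁) ⟨ρ g, g, rfl⟩
    have h2 := congrArg (fun x : ρ.range => (x : V ≃ₗ[F] V) v) h1
    exact h2.symm
  have hTO : T ∈ O Q := by
    obtain ⟨g, hg⟩ := hT
    rw [← hg]; exact hρ g
  have hcn := nondeg_comS hQ hTO hr hTr
  have hfe : perp Q (comS T) = fixS T := perp_comS_eq hQ hTO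
  have hfn : Nondeg (res Q (fixS T)) := by
    have := nondeg_perp hQ hcn
    rwa [hfe] at this
  have hinv : ∀ g, ∀ v ∈ fixS T, ρ g v ∈ fixS T := by
    intro g v hv
    rw [mem_fixS, hcomm, mem_fixS.1 hv]
  let ρ' : G →* (fixS T ≃ₗ[F] fixS T) :=
    { toFun := fun g => resT (ρ g) (fixS T) (hinv g)
      map_one' := by
        ext v
        change ρ 1 (v : V) = v
        rw [map_one]; rfl
      map_mul' := by
        intro a b
        ext v
        change ρ (a * b) (v : V) = ρ a (ρ b v)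
        rw [map_mul]; rfl }
  have hlt : finrank F (fixS T) < n := by
    rw [← hn]
    refine lt_of_le_of_ne (Submodule.finrank_le _) fun h => hT1 ?_
    have htop : fixS T = ⊤ := Submodule.eq_top_of_finrank_eq h
    ext v
    have : v ∈ fixS T := by rw [htop]; trivial
    exact mem_fixS.1 this
  obtain ⟨X', hX'n, hX'f, t', ht', htp'⟩ := ih _ hlt hfn ρ' (fun g v => hρ g v) rfl
  obtain ⟨t, ht, htp⟩ := comS_props hr2 hr hQ hTO hTr
  obtain ⟨e, he⟩ := exists_res_equiv (Q := Q) (fixS T) X'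
  have hle : X'.map (fixS T).subtype ≤ perp Q (comS T) := by
    rw [hfe]; exact Submodule.map_subtype_le _ _
  have hX'n' : Nondeg (res Q (X'.map (fixS T).subtype)) := nondeg_of_equiv e he hX'n
  have hX'd : finrank F (X'.map (fixS T).subtype) = bk F r * t' := by rw [← ht', e.finrank_eq]
  refine ⟨comS T ⊔ X'.map (fixS T).subtype, nondeg_sup hcn hX'n' hle, ?_, t + t', ?_, ?_⟩
  · intro g v hv
    have h1 : v ∈ fixS T := by
      rw [← hfe]
      exact perp_anti le_sup_left hv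
    have h2 : (⟨v, h1⟩ : fixS T) ∈ perp (res Q (fixS T)) X' := by
      intro w hw
      exact hv _ (Submodule.mem_sup_right ⟨w, hw, rfl⟩)
    exact congrArg Subtype.val (hX'f g _ h2)
  · rw [finrank_sup_perp hcn hle, ht, hX'd, mul_add]
  · rw [isPlus_sup_iff hcn hX'n' hle (by rw [ht]; exact (bk_even F r).mul_right _)
      (by rw [hX'd]; exact (bk_even F r).mul_right _), dl_add, htp, ← isPlus_iff_of_equiv e he, htp']

variable {V : Type v} [AddCommGroup V] [Module F V] [FiniteDimensional F V]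
  {Q : QuadraticForm F V}

/-- Elements realising the blocks of a subspace. -/
theorem exists_elt (hr2 : 2 < r) (hr : (r : F) ≠ 0) {X : Submodule F V} {s : ℕ} (h : Fits Q r X s) :
    ∃ T ∈ O Q, T ^ r = 1 ∧ comS T ≤ X ∧ finrank F (comS T) = bk F r * s := by
  obtain ⟨B, hB, hBn, hBd, hBp⟩ := h
  obtain ⟨g, hg, hgr, hgf⟩ := J3 hr2 hr hBn s hBd hBp
  obtain ⟨T, hT, h1, h2⟩ := exists_extend hBn hg
  have hc : comS T = B := by
    apply le_antisymm
    · intro v hv
      obtain ⟨w, rfl⟩ := mem_comS.1 hv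
      obtain ⟨⟨x, y⟩, rfl⟩ := (decomp hBn).surjective w
      rw [decomp_apply, map_add, h1, h2 _ y.2, add_sub_add_right_eq_sub]
      exact B.sub_mem (g x).2 x.2
    · have h3 : comS g = ⊤ := by
        apply Submodule.eq_top_of_finrank_eq
        have h4 := finrank_fixS_add_comS g
        rw [hgf, finrank_bot, zero_add] at h4
        exact h4
      intro v hv
      have h4 : (⟨v, hv⟩ : B) ∈ comS g := by rw [h3]; trivial
      obtain ⟨w, hw⟩ := mem_comS.1 h4
      refine mem_comS.2 ⟨w, ?_⟩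
      rw [h1]
      exact congrArg Subtype.val hw
  exact ⟨T, hT, pow_of_extend hBn h1 h2 hgr, hc.trans_le hB, by rw [hc, hBd]⟩

/-- If the complement of `W` contains a maximal number of blocks, then the number of conjugates of `W` is
prime to `r`. -/
theorem not_dvd_card_orbit (hr2 : 2 < r) (hr : (r : F) ≠ 0) (hQ : Nondeg Q) {W : Submodule F V} {S : ℕ}
    (hS : ∀ s, Fits Q r (⊤ : Submodule F V) s → s ≤ S) (hW : Fits Q r (perp Q W) S) :
    ¬ r ∣ Nat.card {W' : Submodule F V // ∃ g ∈ O Q, W.map (g : V →ₗ[F] V) = W'} := by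
  classical
  have : Finite V := Module.finite_of_finite F
  have : Finite (O Q) := Finite.of_injective (fun g : O Q => ((g : V ≃ₗ[F] V) : V → V)) (by
    intro a b h
    exact Subtype.ext (LinearEquiv.ext fun v => congrFun h v))
  obtain ⟨x, hxO, hxr, hxW, hxd⟩ := exists_elt hr2 hr hW
  let x' : O Q := ⟨x, hxO⟩
  have hx' : x' ^ r = 1 := Subtype.ext hxr
  have hpx : IsPGroup r (Subgroup.zpowers x') := by
    intro y
    obtain ⟨y, hy⟩ := y
    obtain ⟨k, rfl⟩ := Subgroup.mem_zpowers_iff.1 hy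
    refine ⟨1, ?_⟩
    apply Subtype.ext
    change (x' ^ k) ^ (r ^ 1) = 1
    rw [pow_one, ← zpow_natCast, ← zpow_mul, mul_comm, zpow_mul, zpow_natCast, hx', one_zpow]
  obtain ⟨P, hP⟩ := hpx.exists_le_sylow
  have hxP : x' ∈ P := hP (Subgroup.mem_zpowers x')
  obtain ⟨X, hXn, hXf, t, ht, htp⟩ := group_split hr2 hr P.2 _ hQ
    ((O Q).subtype.comp (P : Subgroup (O Q)).subtype) (fun g => (g : O Q).2) rfl
  have htS : t ≤ S := hS t ⟨X, le_top, hXn, ht, htp⟩
  -- `comS x = X`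
  have h1 : comS x ≤ X := by
    rw [← perp_perp hQ (comS x), ← perp_perp hQ X]
    apply perp_anti
    rw [perp_comS_eq hQ hxO]
    intro v hv
    exact mem_fixS.2 (hXf ⟨x', hxP⟩ v hv)
  have h2 : comS x = X := by
    apply Submodule.eq_of_le_of_finrank_le h1
    rw [ht, hxd]
    exact Nat.mul_le_mul_left _ htS
  have hWX : W ≤ perp Q X := by
    rw [← h2]
    intro w hw y hy
    rw [polar_comm]
    exact hxW hy w hw
  -- the action
  let act : MulAction (O Q) (Submodule F V) :=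
    { smul := fun g U => U.map ((g : V ≃ₗ[F] V) : V →ₗ[F] V)
      one_smul := fun U => Submodule.map_id U
      mul_smul := fun a b U => by
        change U.map _ = (U.map _).map _
        rw [← Submodule.map_comp]
        rfl }
  have hsm : ∀ (g : O Q) (U : Submodule F V), g • U = U.map ((g : V ≃ₗ[F] V) : V →ₗ[F] V) := fun _ _ => rfl
  have hstab : (P : Subgroup (O Q)) ≤ MulAction.stabilizer (O Q) W := by
    intro g hg
    rw [MulAction.mem_stabilizer_iff, hsm]
    apply map_eq_of_le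
    intro w hw
    have : (g : V ≃ₗ[F] V) w = w := hXf ⟨g, hg⟩ w (hWX hw)
    rw [this]; exact hw
  have hidx : ¬ r ∣ (MulAction.stabilizer (O Q) W).index := by
    intro h
    exact P.not_dvd_index (h.trans (Subgroup.index_dvd_of_le hstab))
  rw [MulAction.index_stabilizer] at hidx
  have hcard : Nat.card {W' : Submodule F V // ∃ g ∈ O Q, W.map (g : V →ₗ[F] V) = W'} =
      (MulAction.orbit (O Q) W).ncard := by
    rw [← Nat.card_coe_set_eq]
    refine Nat.card_congr (Equiv.subtypeEquivRight fun W' => ?_)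
    rw [MulAction.mem_orbit_iff]
    constructor
    · rintro ⟨g, hg, h⟩
      exact ⟨⟨g, hg⟩, h⟩
    · rintro ⟨g, h⟩
      exact ⟨g, g.2, h⟩
  rwa [hcard]

end Cfsg.Agent.H958
end

-- part: H958/OddQ
section
/-!
# Quadratic spaces over finite fields of odd order

Embedding of spaces of smaller dimension, universality.
-/

set_option autoImplicit false

namespace Cfsg.Agent.H958

open Module QuadraticMap Cfsg.Agent.LieClassical.OrthCore Cfsg.Agent.LieClassical.OrthTrans
  Cfsg.Agent.H955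

universe u v w
variable {F : Type u} [Field F]

section

variable {V : Type v} [AddCommGroup V] [Module F V] {Q : QuadraticForm F V}

theorem exists_aniso_vec (hQ : Nondeg Q) (hd : 0 < finrank F V) : ∃ v, Q v ≠ 0 := by
  by_contra hcon
  push Not at hcon
  obtain ⟨x, -, hx⟩ := exists_ne_zero_of_finrank_pos (U := (⊤ : Submodule F V)) (by rwa [finrank_top])
  apply hx
  refine hQ x fun y => ?_
  rw [polar, hcon, hcon, hcon]
  ring

/-- the line through a nonsingular vector is nondegenerate -/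
theorem nondeg_span (h2 : (2 : F) ≠ 0) {v : V} (hv : Q v ≠ 0) : Nondeg (res Q (F ∙ v)) := by
  rw [nondeg_res_iff]
  intro x hx hxy
  obtain ⟨c, rfl⟩ := Submodule.mem_span_singleton.1 hx
  have h := hxy v (Submodule.mem_span_singleton_self v)
  rw [polar_smul_left, polar_self', smul_eq_mul] at h
  have hc : c = 0 := by
    rcases mul_eq_zero.1 h with h | h
    · exact h
    · exact absurd h (mul_ne_zero h2 hv)
  rw [hc, zero_smul]

theorem finrank_span_aniso {v : V} (hv : Q v ≠ 0) : finrank F ↥(F ∙ v) = 1 := by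
  apply finrank_span_singleton
  rintro rfl
  exact hv (map_zero Q)

/-- universality in dimension at least two -/
theorem exists_value [Finite F] [FiniteDimensional F V] (h2 : (2 : F) ≠ 0) (hQ : Nondeg Q)
    (hd : 2 ≤ finrank F V) (c : F) : ∃ v, Q v = c := by
  obtain ⟨x, hx⟩ := exists_aniso_vec hQ (by omega)
  have hxn := nondeg_span h2 hx
  have hpn := nondeg_perp hQ hxn
  have hpd := finrank_add_perp hQ (F ∙ x)
  rw [finrank_span_aniso hx] at hpd
  obtain ⟨y, hy⟩ := exists_aniso_vec hpn (by omega)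
  obtain ⟨s, t, hst⟩ := Cfsg.Agent.ClassicalGeometry.Universal.exists_sq_add_sq h2 hx hy c
  refine ⟨s • x + t • (y : V), ?_⟩
  have h0 : polar Q x (y : V) = 0 := y.2 x (Submodule.mem_span_singleton_self x)
  rw [Q_add, QuadraticMap.map_smul, QuadraticMap.map_smul, polar_smul_left, polar_smul_right, h0]
  rw [res_apply] at hst
  rw [← hst]
  simp only [smul_eq_mul]
  ring

/-- **embedding**: over a finite field of odd order every nondegenerate space embeds in every nondegenerate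
space of larger dimension. -/
theorem exists_embedding_odd [Finite F] (h2 : (2 : F) ≠ 0) (n : ℕ) :
    ∀ {X : Type w} [AddCommGroup X] [Module F X] [FiniteDimensional F X] {R : QuadraticForm F X},
    Nondeg R → finrank F X = n →
    ∀ {V : Type v} [AddCommGroup V] [Module F V] [FiniteDimensional F V] {Q : QuadraticForm F V},
    Nondeg Q → n < finrank F V → ∃ f : X →ₗ[F] V, Function.Injective f ∧ ∀ x, Q (f x) = R x := by
  induction n with
  | zero =>
    intro X _ _ _ R hR hn V _ _ _ Q hQ hlt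
    have : Subsingleton X := Module.finrank_zero_iff.1 hn
    refine ⟨0, fun x y _ => Subsingleton.elim x y, fun x => ?_⟩
    rw [Subsingleton.elim x 0, map_zero, map_zero, map_zero]
  | succ n ih =>
    intro X _ _ _ R hR hn V _ _ _ Q hQ hlt
    obtain ⟨x, hx⟩ := exists_aniso_vec hR (by omega)
    obtain ⟨v, hv⟩ := exists_value h2 hQ (by omega) (R x)
    have hv0 : Q v ≠ 0 := by rw [hv]; exact hx
    have hxn := nondeg_span h2 hx
    have hvn := nondeg_span h2 hv0
    have hd1 := finrank_add_perp hR (F ∙ x)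
    have hd2 := finrank_add_perp hQ (F ∙ v)
    rw [finrank_span_aniso hx] at hd1
    rw [finrank_span_aniso hv0] at hd2
    obtain ⟨f, hf, hfQ⟩ := ih (nondeg_perp hR hxn) (by omega) (nondeg_perp hQ hvn) (by omega)
    -- the map `a • x + y ↦ a • v + f y`
    have hx0 : x ≠ 0 := by rintro rfl; exact hx (map_zero R)
    have hv00 : v ≠ 0 := by rintro rfl; exact hv0 (map_zero Q)
    let e1 : (F ∙ x) ≃ₗ[F] F := (LinearEquiv.toSpanNonzeroSingleton F X x hx0).symm
    let g : ((F ∙ x) × perp R (F ∙ x)) →ₗ[F] V :=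
      LinearMap.coprod ((LinearMap.toSpanSingleton F V v) ∘ₗ e1.toLinearMap)
        ((perp Q (F ∙ v)).subtype ∘ₗ f)
    have hg : ∀ p, g p = e1 p.1 • v + (f p.2 : V) := fun p => rfl
    have he1 : ∀ p : (F ∙ x), (p : X) = e1 p • x := by
      intro p
      have := LinearEquiv.toSpanNonzeroSingleton_symm_apply_smul F X x hx0 p
      exact this.symm
    have hQg : ∀ p, Q (g p) = R (decomp hxn p) := by
      intro p
      rw [hg, Q_decomp]
      have h1 : polar Q v (f p.2 : V) = 0 := (f p.2).2 v (Submodule.mem_span_singleton_self v)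
      have h3 := hfQ p.2
      rw [res_apply, res_apply] at h3
      rw [Q_add, polar_smul_left, h1, QuadraticMap.map_smul, hv, h3]
      conv_rhs => rw [he1 p.1, QuadraticMap.map_smul]
      simp
    have hinj : Function.Injective g := by
      rw [← LinearMap.ker_eq_bot, LinearMap.ker_eq_bot']
      intro p hp
      rw [hg] at hp
      have h1 : polar Q v (f p.2 : V) = 0 := (f p.2).2 v (Submodule.mem_span_singleton_self v)
      have h3 : e1 p.1 = 0 := by
        have h4 : polar Q v (e1 p.1 • v + (f p.2 : V)) = 0 := by rw [hp, polar_zero_right]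
        rw [polar_add_right, h1, add_zero, polar_smul_right, polar_self', smul_eq_mul] at h4
        rcases mul_eq_zero.1 h4 with h4 | h4
        · exact h4
        · exact absurd h4 (mul_ne_zero h2 hv0)
      rw [h3, zero_smul, zero_add] at hp
      have h5 : f p.2 = 0 := Subtype.ext hp
      have h6 : p.2 = 0 := by rw [← LinearMap.ker_eq_bot, LinearMap.ker_eq_bot'] at hf; exact hf _ h5
      exact Prod.ext (by rw [LinearEquiv.map_eq_zero_iff] at h3; exact h3) h6
    refine ⟨g ∘ₗ (decomp hxn).symm.toLinearMap, hinj.comp (decomp hxn).symm.injective, fun y => ?_⟩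
    change Q (g ((decomp hxn).symm y)) = R y
    rw [hQg, LinearEquiv.apply_symm_apply]

end

end Cfsg.Agent.H958
end

-- part: H958/Crit
section
/-!
# The criterion: when does every isometry of odd prime order fix a conjugate of `W`
-/

set_option autoImplicit false

namespace Cfsg.Agent.H958

open Module QuadraticMap Cfsg.Agent.LieClassical.OrthCore Cfsg.Agent.LieClassical.OrthTrans
  Cfsg.Agent.H955

universe u v
variable {F : Type u} [Field F]

section Sq

variable {V : Type v} [AddCommGroup V] [Module F V] [FiniteDimensional F V] {Q : QuadraticForm F V}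

/-- The square of an isometry lies in the commutator subgroup. -/
theorem sq_mem_E (hG : Good Q) {T : V ≃ₗ[F] V} (hT : T ∈ O Q) : T * T ∈ E Q := by
  have key : ∀ T ∈ Subgroup.closure (reflSet Q ∪ siegelSet Q), T * T ∈ E Q := by
    intro T hT
    induction hT using Subgroup.closure_induction with
    | mem x hx =>
      rcases hx with ⟨v, hv, rfl⟩ | ⟨u, w, hu, hw, rfl⟩
      · rw [refl_mul_self]; exact (E Q).one_mem
      · exact (E Q).mul_mem (siegel_mem_E hu hw) (siegel_mem_E hu hw)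
    | one => rw [one_mul]; exact (E Q).one_mem
    | mul x y hx hy h1 h2 =>
      rw [← O_eq_closure hG.nondeg] at hx hy
      have hc : x⁻¹ * y * x⁻¹⁻¹ * y⁻¹ ∈ E Q :=
        hG.commutator_le_E (Subgroup.commutator_mem_commutator ((O Q).inv_mem hx) hy)
      have e : x * y * (x * y) = (x * x) * (x⁻¹ * y * x⁻¹⁻¹ * y⁻¹) * (y * y) := by group
      rw [e]
      exact (E Q).mul_mem ((E Q).mul_mem h1 hc) h2
    | inv x _ h1 =>
      have e : x⁻¹ * x⁻¹ = (x * x)⁻¹ := by group
      rw [e]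
      exact (E Q).inv_mem h1
  exact key T (by rw [← O_eq_closure hG.nondeg]; exact hT)

/-- An isometry of odd order lies in the commutator subgroup. -/
theorem mem_E_of_odd (hG : Good Q) {T : V ≃ₗ[F] V} (hT : T ∈ O Q) {r : ℕ} (hr : Odd r)
    (hTr : T ^ r = 1) : T ∈ E Q := by
  obtain ⟨k, hk⟩ := hr
  have e : T = (T * T) ^ (k + 1) := by
    have h1 : (T * T) ^ (k + 1) = T ^ r * T := by
      rw [← pow_two, ← pow_mul, ← pow_succ]
      congr 1
      omega
    rw [h1, hTr, one_mul]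
  rw [e]
  exact (E Q).pow_mem (sq_mem_E hG hT) _

end Sq

variable [Finite F] {r : ℕ} [Fact r.Prime]

variable {V : Type v} [AddCommGroup V] [Module F V] [FiniteDimensional F V]
  {Q : QuadraticForm F V}

omit [Finite F] [Fact r.Prime] [FiniteDimensional F V] in
theorem fits_map_of {g : V ≃ₗ[F] V} (hg : g ∈ O Q) {X : Submodule F V} {j : ℕ} (h : Fits Q r X j) :
    Fits Q r (X.map (g : V →ₗ[F] V)) j := by
  obtain ⟨B, hB, hBn, hBd, hBp⟩ := h
  refine ⟨B.map (g : V →ₗ[F] V), Submodule.map_mono hB, nondeg_map hg hBn, ?_, ?_⟩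
  · rw [finrank_map', hBd]
  · rw [isPlus_map hg, hBp]

theorem fits_map_iff {g : V ≃ₗ[F] V} (hg : g ∈ O Q) {X : Submodule F V} {j : ℕ} :
    Fits Q r (X.map (g : V →ₗ[F] V)) j ↔ Fits Q r X j := by
  refine ⟨fun h => ?_, fits_map_of hg⟩
  have h1 := fits_map_of ((O Q).inv_mem hg) h
  have e : (X.map (g : V →ₗ[F] V)).map ((g⁻¹ : V ≃ₗ[F] V) : V →ₗ[F] V) = X := by
    rw [← Submodule.map_comp]
    have : ((g⁻¹ : V ≃ₗ[F] V) : V →ₗ[F] V) ∘ₗ (g : V →ₗ[F] V) = LinearMap.id := by
      ext v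
      exact g.symm_apply_apply v
    rw [this, Submodule.map_id]
  rwa [e] at h1

/-- **The criterion.** `S` is the maximal number of blocks of `V`. -/
theorem elusive_iff (hr2 : 2 < r) (hr : (r : F) ≠ 0) (hQ : Nondeg Q) {W : Submodule F V}
    (hW : Nondeg (res Q W)) {S : ℕ} (hS : Fits Q r (⊤ : Submodule F V) S)
    (hS' : ∀ s, Fits Q r (⊤ : Submodule F V) s → s ≤ S) :
    (∀ T ∈ O Q, T ^ r = 1 → T ≠ 1 →
      ∃ g ∈ O Q, ∀ v ∈ W.map (g : V →ₗ[F] V), T v ∈ W.map (g : V →ₗ[F] V)) ↔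
    ∃ j ≤ S, Fits Q r W j ∧ Fits Q r (perp Q W) (S - j) := by
  constructor
  · intro h
    rcases Nat.eq_zero_or_pos S with rfl | hpos
    · exact ⟨0, le_rfl, fits_zero r W, fits_zero r _⟩
    obtain ⟨T, hT, hTr, -, hTd⟩ := exists_elt hr2 hr hS
    have hT1 : T ≠ 1 := by
      rintro rfl
      have h0 : comS (1 : V ≃ₗ[F] V) = ⊥ := by
        rw [Submodule.eq_bot_iff]
        intro v hv
        obtain ⟨w, rfl⟩ := mem_comS.1 hv
        exact sub_self w
      rw [h0, finrank_bot] at hTd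
      have := Nat.mul_pos (bk_pos (F := F) (r := r) hr) hpos
      omega
    obtain ⟨g, hg, hgT⟩ := h T hT hTr hT1
    obtain ⟨a, b, hab, ha, hb⟩ := fits_of_fix hr2 hr hQ (nondeg_map hg hW) hT hTr hgT
    rw [perp_map hg] at hb
    rw [fits_map_iff hg] at ha hb
    have h1 : S = a + b := Nat.eq_of_mul_eq_mul_left (bk_pos (F := F) (r := r) hr) (hTd.symm.trans hab)
    refine ⟨a, by omega, ha, ?_⟩
    have : S - a = b := by omega
    rw [this]; exact hb
  · rintro ⟨j, hj, hj1, hj2⟩ T hT hTr -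
    obtain ⟨t, ht, htp⟩ := comS_props hr2 hr hQ hT hTr
    have htS : t ≤ S := hS' t ⟨comS T, le_top, nondeg_comS hQ hT hr hTr, ht, htp⟩
    refine fix_of_fits hr2 hr hQ hT hTr (a := min t j) (b := t - min t j) ?_
      (fits_mono hr (min_le_right _ _) hj1) (fits_mono hr ?_ hj2)
    · rw [ht]; congr 1; omega
    · omega

/-- Excluding the extreme cases by the divisibility hypothesis. -/
theorem not_fits_of_dvd (hr2 : 2 < r) (hr : (r : F) ≠ 0) (hQ : Nondeg Q) {W : Submodule F V}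
    {S : ℕ}
    (hS' : ∀ s, Fits Q r (⊤ : Submodule F V) s → s ≤ S)
    (hdvd : r ∣ Nat.card {W' : Submodule F V // ∃ g ∈ O Q, W.map (g : V →ₗ[F] V) = W'}) :
    ¬ Fits Q r (perp Q W) S ∧ ¬ Fits Q r W S := by
  refine ⟨fun h => not_dvd_card_orbit hr2 hr hQ hS' h hdvd, fun h => ?_⟩
  have h1 : Fits Q r (perp Q (perp Q W)) S := by rwa [perp_perp hQ]
  refine not_dvd_card_orbit hr2 hr hQ hS' h1 ?_
  have e : Nat.card {W' : Submodule F V // ∃ g ∈ O Q, (perp Q W).map (g : V →ₗ[F] V) = W'} =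
      Nat.card {W' : Submodule F V // ∃ g ∈ O Q, W.map (g : V →ₗ[F] V) = W'} := by
    refine Nat.card_congr ⟨fun X => ⟨perp Q X.1, ?_⟩, fun X => ⟨perp Q X.1, ?_⟩, ?_, ?_⟩
    · obtain ⟨X, g, hg, rfl⟩ := X
      exact ⟨g, hg, by rw [perp_map hg, perp_perp hQ]⟩
    · obtain ⟨X, g, hg, rfl⟩ := X
      exact ⟨g, hg, by rw [perp_map hg]⟩
    · intro X
      exact Subtype.ext (perp_perp hQ _)
    · intro X
      exact Subtype.ext (perp_perp hQ _)
  rwa [e]

/-- The numerical criterion in odd dimension. -/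
theorem fits_iff_odd (hr : (r : F) ≠ 0) (h2 : (2 : F) ≠ 0) {X : Submodule F V} (hX : Nondeg (res Q X))
    (hXo : Odd (finrank F X)) {j : ℕ} : Fits Q r X j ↔ bk F r * j < finrank F X := by
  constructor
  · intro h
    refine lt_of_le_of_ne h.le fun h1 => ?_
    rw [← h1] at hXo
    exact (Nat.not_even_iff_odd.2 hXo) ((bk_even F r).mul_right _)
  · intro h
    rcases Nat.eq_zero_or_pos j with rfl | hpos
    · exact fits_zero r X
    obtain ⟨k, hk⟩ := bk_even F r
    have hc := bk_pos (F := F) (r := r) hr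
    have hck : bk F r * j = 2 * (k * j) := by rw [hk]; ring
    obtain ⟨Y, _, _, _, R, hR, hRd, hRp⟩ := exists_model (F := F) (k * j)
      (Nat.mul_pos (by omega) hpos) (dl F r j)
    obtain ⟨f, hf, hfQ⟩ := exists_embedding_odd h2 _ hR hRd hX (by rw [← hck]; exact h)
    obtain ⟨h1, h3, h4⟩ := range_props (Q := res Q X) hR hf hfQ
    obtain ⟨e, he⟩ := exists_res_equiv (Q := Q) X (LinearMap.range f)
    refine ⟨(LinearMap.range f).map X.subtype, (Submodule.map_subtype_le _ _), nondeg_of_equiv e he h1,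
      ?_, ?_⟩
    · rw [← e.finrank_eq, h3, hRd, hck]
    · rw [← isPlus_iff_of_equiv e he, h4, hRp]

end Cfsg.Agent.H958
end

-- part: H958/Arith
section
/-!
# Arithmetic of blocks

`FN c n A s`: a space of dimension `n` has room for `s` blocks of dimension `c`, where `A` says that a space
of dimension divisible by `c` has the type of a sum of blocks.
-/

set_option autoImplicit false

namespace Cfsg.Agent.H958

/-- room for `s` blocks -/
def FN (c n : ℕ) (A : Prop) (s : ℕ) : Prop := s = 0 ∨ c * s < n ∨ (c * s = n ∧ A)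

theorem mul_lt_iff {c M l j : ℕ} (hl : l < c) : c * j < c * M + l ↔ j < M ∨ (j = M ∧ 0 < l) := by
  constructor
  · intro h
    by_contra hcon
    push Not at hcon
    rcases Nat.lt_or_ge M j with h1 | h1
    · have h2 : c * (M + 1) ≤ c * j := Nat.mul_le_mul_left _ h1
      rw [mul_add, mul_one] at h2
      omega
    · have h2 : j = M := by omega
      have h3 := hcon.2 h2
      subst h2
      omega
  · rintro (h | ⟨rfl, h⟩)
    · have h2 : c * (j + 1) ≤ c * M := Nat.mul_le_mul_left _ h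
      rw [mul_add, mul_one] at h2
      omega
    · omega

theorem mul_eq_iff {c M l j : ℕ} (hl : l < c) : c * j = c * M + l ↔ j = M ∧ l = 0 := by
  constructor
  · intro h
    rcases Nat.lt_trichotomy j M with h1 | h1 | h1
    · have h2 : c * (j + 1) ≤ c * M := Nat.mul_le_mul_left _ h1
      rw [mul_add, mul_one] at h2
      omega
    · subst h1; omega
    · have h2 : c * (M + 1) ≤ c * j := Nat.mul_le_mul_left _ h1
      rw [mul_add, mul_one] at h2
      omega
  · rintro ⟨rfl, rfl⟩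
    rfl

theorem FN_iff {c M l j : ℕ} {A : Prop} (hl : l < c) :
    FN c (c * M + l) A j ↔ j = 0 ∨ j < M ∨ (j = M ∧ (0 < l ∨ A)) := by
  unfold FN
  rw [mul_lt_iff hl, mul_eq_iff hl]
  constructor
  · rintro (h | (h | ⟨h, h'⟩) | ⟨⟨h, h'⟩, hA⟩)
    · exact Or.inl h
    · exact Or.inr (Or.inl h)
    · exact Or.inr (Or.inr ⟨h, Or.inl h'⟩)
    · exact Or.inr (Or.inr ⟨h, Or.inr hA⟩)
  · rintro (h | h | ⟨h, h' | hA⟩)
    · exact Or.inl h
    · exact Or.inr (Or.inl (Or.inl h))
    · exact Or.inr (Or.inl (Or.inr ⟨h, h'⟩))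
    · rcases Nat.eq_zero_or_pos l with h0 | h0
      · exact Or.inr (Or.inr ⟨⟨h, h0⟩, hA⟩)
      · exact Or.inr (Or.inl (Or.inr ⟨h, h0⟩))

/-- The numerical criterion. -/
def Crit (c n m : ℕ) (AV AW AP : Prop) : Prop :=
  (n % c = 0 ∧ m % c = 0 ∧ (AW ∨ AP)) ∨ (n % c = 0 ∧ 0 < m % c ∧ ¬ AV) ∨
  (0 < n % c ∧ m % c = 0 ∧ AW) ∨ (0 < m % c ∧ m % c < n % c) ∨ (0 < n % c ∧ m % c = n % c ∧ AP)

theorem FN_le {c M l j : ℕ} {A : Prop} (hl : l < c) (h : FN c (c * M + l) A j) : j ≤ M := by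
  rcases (FN_iff hl).1 h with h | h | ⟨h, -⟩ <;> omega

theorem FN_lt {c M j : ℕ} {A : Prop} (hc : 0 < c) (hM : 0 < M) (hA : ¬ A) (h : FN c (c * M) A j) : j < M := by
  have h1 : FN c (c * M + 0) A j := h
  rcases (FN_iff hc).1 h1 with h | h | ⟨-, h⟩
  · omega
  · omega
  · rcases h with h | h
    · omega
    · exact absurd h hA

theorem FN_of_lt {c M l j : ℕ} {A : Prop} (hl : l < c) (h : j < M) : FN c (c * M + l) A j :=
  (FN_iff hl).2 (Or.inr (Or.inl h))

theorem FN_of_pos {c M l : ℕ} {A : Prop} (hl : l < c) (h : 0 < l) : FN c (c * M + l) A M :=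
  (FN_iff hl).2 (Or.inr (Or.inr ⟨rfl, Or.inl h⟩))

theorem FN_of_A {c M l : ℕ} {A : Prop} (hl : l < c) (h : A) : FN c (c * M + l) A M :=
  (FN_iff hl).2 (Or.inr (Or.inr ⟨rfl, Or.inr h⟩))

theorem FN_of_A' {c M : ℕ} {A : Prop} (hc : 0 < c) (h : A) : FN c (c * M) A M :=
  FN_of_A (l := 0) hc h

/-- case `k = 0 = l` -/
theorem max00 {c N M : ℕ} (hc : 0 < c) (hM : 0 < M) (hMN : M < N) {AV AW AP : Prop}
    (hA : AV ↔ (AW ↔ AP)) :
    ∃ S, FN c (c * N) AV S ∧ (∀ s, FN c (c * N) AV s → s ≤ S) ∧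
      ((∃ j ≤ S, FN c (c * M) AW j ∧ FN c (c * (N - M)) AP (S - j)) ↔ (AW ∨ AP)) := by
  by_cases hAV : AV
  · refine ⟨N, FN_of_A' hc hAV, fun s hs => FN_le (l := 0) hc hs, ?_⟩
    constructor
    · rintro ⟨j, hj, h4, h5⟩
      by_contra hcon
      push Not at hcon
      have h6 := FN_lt hc hM hcon.1 h4
      have h7 := FN_lt hc (by omega) hcon.2 h5
      omega
    · intro h
      have hW : AW := by tauto
      have hP : AP := by tauto
      exact ⟨M, hMN.le, FN_of_A' hc hW, FN_of_A' hc hP⟩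
  · refine ⟨N - 1, FN_of_lt (l := 0) hc (by omega), fun s hs => ?_, ?_⟩
    · have := FN_lt hc (by omega) hAV hs
      omega
    · refine iff_of_true ?_ (by tauto)
      by_cases hW : AW
      · refine ⟨M, by omega, FN_of_A' hc hW, FN_of_lt (l := 0) hc (by omega)⟩
      · have hP : AP := by tauto
        refine ⟨M - 1, by omega, FN_of_lt (l := 0) hc (by omega), ?_⟩
        have e : N - 1 - (M - 1) = N - M := by omega
        rw [e]
        exact FN_of_A' hc hP

/-- case `k = 0 < l` -/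
theorem max01 {c N M l : ℕ} (hc : 0 < c) (hl : l < c) (hl0 : 0 < l) (hMN : M < N) {AV AW AP : Prop} :
    ∃ S, FN c (c * N) AV S ∧ (∀ s, FN c (c * N) AV s → s ≤ S) ∧
      ((∃ j ≤ S, FN c (c * M + l) AW j ∧ FN c (c * (N - M - 1) + (c - l)) AP (S - j)) ↔ ¬ AV) := by
  by_cases hAV : AV
  · refine ⟨N, FN_of_A' hc hAV, fun s hs => FN_le (l := 0) hc hs, iff_of_false ?_ (not_not.2 hAV)⟩
    rintro ⟨j, hj, h4, h5⟩
    have h6 := FN_le hl h4
    have h7 := FN_le (by omega) h5
    omega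
  · refine ⟨N - 1, FN_of_lt (l := 0) hc (by omega), fun s hs => ?_, iff_of_true ?_ hAV⟩
    · have := FN_lt hc (by omega) hAV hs
      omega
    · refine ⟨M, by omega, FN_of_pos hl hl0, ?_⟩
      have e : N - 1 - M = N - M - 1 := by omega
      rw [e]
      exact FN_of_pos (by omega) (by omega)

/-- case `0 < k`, `l ≤ k` -/
theorem max1 {c N M k l : ℕ} (hk : k < c) (hk0 : 0 < k) (hl : l ≤ k) (hMN : M ≤ N)
    (hM : l = 0 → 0 < M) (hMN' : l = k → M < N) {AV AW AP : Prop} :
    ∃ S, FN c (c * N + k) AV S ∧ (∀ s, FN c (c * N + k) AV s → s ≤ S) ∧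
      ((∃ j ≤ S, FN c (c * M + l) AW j ∧ FN c (c * (N - M) + (k - l)) AP (S - j)) ↔
        ((l = 0 ∧ AW) ∨ (0 < l ∧ l < k) ∨ (l = k ∧ AP))) := by
  refine ⟨N, FN_of_pos hk hk0, fun s hs => FN_le hk hs, ?_⟩
  have hl' : l < c := lt_of_le_of_lt hl hk
  constructor
  · rintro ⟨j, hj, h4, h5⟩
    have h6 := FN_le hl' h4
    have h7 := FN_le (by omega) h5
    have hj' : j = M := by omega
    subst hj'
    rcases Nat.eq_zero_or_pos l with h0 | h0
    · left
      refine ⟨h0, ?_⟩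
      subst h0
      by_contra hW
      have := FN_lt (by omega) (hM rfl) hW h4
      omega
    · right
      rcases Nat.eq_or_lt_of_le hl with h1 | h1
      · right
        refine ⟨h1, ?_⟩
        by_contra hP
        rw [h1, Nat.sub_self, add_zero] at h5
        have := FN_lt (by omega) (by have := hMN' h1; omega) hP h5
        omega
      · exact Or.inl ⟨h0, h1⟩
  · rintro (⟨h0, hW⟩ | ⟨h0, h1⟩ | ⟨h1, hP⟩)
    · refine ⟨M, hMN, FN_of_A hl' hW, FN_of_pos (by omega) (by omega)⟩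
    · exact ⟨M, hMN, FN_of_pos hl' h0, FN_of_pos (by omega) (by omega)⟩
    · exact ⟨M, hMN, FN_of_pos hl' (by omega), FN_of_A (by omega) hP⟩

/-- case `0 < k < l` -/
theorem max2 {c N M k l : ℕ} (hk0 : 0 < k) (hl : l < c) (hkl : k < l) (hMN : M < N) {AV AW AP : Prop} :
    ∃ S, FN c (c * N + k) AV S ∧ (∀ s, FN c (c * N + k) AV s → s ≤ S) ∧
      ¬ (∃ j ≤ S, FN c (c * M + l) AW j ∧ FN c (c * (N - M - 1) + (c + k - l)) AP (S - j)) := by
  refine ⟨N, FN_of_pos (by omega) hk0, fun s hs => FN_le (by omega) hs, ?_⟩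
  rintro ⟨j, hj, h4, h5⟩
  have h6 := FN_le hl h4
  have h7 := FN_le (by omega) h5
  omega

/-- The existence of the maximal number of blocks and the criterion. -/
theorem exists_max {c n m : ℕ} (hc : 0 < c) (hm : 0 < m) (hmn : m < n) {AV AW AP : Prop}
    (hA : n % c = 0 → m % c = 0 → (AV ↔ (AW ↔ AP))) :
    ∃ S, FN c n AV S ∧ (∀ s, FN c n AV s → s ≤ S) ∧
      ((∃ j ≤ S, FN c m AW j ∧ FN c (n - m) AP (S - j)) ↔ Crit c n m AV AW AP) := by
  obtain ⟨N, k, hk, hn⟩ : ∃ N k, k < c ∧ n = c * N + k :=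
    ⟨n / c, n % c, Nat.mod_lt _ hc, (Nat.div_add_mod n c).symm⟩
  obtain ⟨M, l, hl, hm'⟩ : ∃ M l, l < c ∧ m = c * M + l :=
    ⟨m / c, m % c, Nat.mod_lt _ hc, (Nat.div_add_mod m c).symm⟩
  have hkn : n % c = k := by rw [hn, Nat.mul_add_mod, Nat.mod_eq_of_lt hk]
  have hlm : m % c = l := by rw [hm', Nat.mul_add_mod, Nat.mod_eq_of_lt hl]
  unfold Crit
  rw [hkn, hlm]
  have hMN : M ≤ N := by
    by_contra hcon
    push Not at hcon
    have h2 : c * (N + 1) ≤ c * M := Nat.mul_le_mul_left _ hcon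
    rw [mul_add, mul_one] at h2
    omega
  have hMN1 : k ≤ l → M < N := by
    intro h
    rcases Nat.eq_or_lt_of_le hMN with h0 | h0
    · exfalso; subst h0; omega
    · exact h0
  have hM0 : l = 0 → 0 < M := by
    intro h
    rcases Nat.eq_zero_or_pos M with h0 | h0
    · subst h0; omega
    · exact h0
  have e1 : c * N = c * (N - M) + c * M := by
    rw [← mul_add]; congr 1; omega
  have e2 : M < N → c * N = c * (N - M - 1) + c * M + c := by
    intro h
    have : N = (N - M - 1) + M + 1 := by omega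
    conv_lhs => rw [this]
    rw [mul_add, mul_add, mul_one]
  rcases Nat.eq_zero_or_pos k with hk0 | hk0
  · rcases Nat.eq_zero_or_pos l with hl0 | hl0
    · obtain ⟨S, h1, h2, h3⟩ := max00 (N := N) hc (hM0 hl0) (hMN1 (by omega)) (hA (hkn.trans hk0) (hlm.trans hl0))
      have en : n = c * N := by omega
      have em : m = c * M := by omega
      have enm : n - m = c * (N - M) := by omega
      refine ⟨S, by rw [en]; exact h1, by rw [en]; exact h2, ?_⟩
      rw [enm, em, h3]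
      constructor
      · intro h
        exact Or.inl ⟨hk0, hl0, h⟩
      · rintro (⟨-, -, h⟩ | ⟨-, h, -⟩ | ⟨h, -⟩ | ⟨h, -⟩ | ⟨h, -⟩)
        · exact h
        all_goals exact absurd h (by omega)
    · obtain ⟨S, h1, h2, h3⟩ := max01 (N := N) (AV := AV) (AW := AW) (AP := AP) hc hl hl0 (hMN1 (by omega))
      have e2' := e2 (hMN1 (by omega))
      have en : n = c * N := by omega
      have enm : n - m = c * (N - M - 1) + (c - l) := by omega
      refine ⟨S, by rw [en]; exact h1, by rw [en]; exact h2, ?_⟩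
      rw [enm, hm', h3]
      constructor
      · intro h
        exact Or.inr (Or.inl ⟨hk0, hl0, h⟩)
      · rintro (⟨-, h, -⟩ | ⟨-, -, h⟩ | ⟨h, -⟩ | ⟨-, h⟩ | ⟨h, -⟩)
        · exact absurd h (by omega)
        · exact h
        all_goals exact absurd h (by omega)
  · rcases Nat.lt_or_ge k l with hkl | hkl
    · obtain ⟨S, h1, h2, h3⟩ := max2 (N := N) (AV := AV) (AW := AW) (AP := AP) hk0 hl hkl (hMN1 hkl.le)
      have e2' := e2 (hMN1 (by omega))
      have enm : n - m = c * (N - M - 1) + (c + k - l) := by omega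
      refine ⟨S, by rw [hn]; exact h1, by rw [hn]; exact h2, ?_⟩
      rw [enm, hm']
      refine iff_of_false h3 ?_
      rintro (⟨h, -⟩ | ⟨h, -⟩ | ⟨-, h, -⟩ | ⟨-, h⟩ | ⟨-, h, -⟩) <;> omega
    · obtain ⟨S, h1, h2, h3⟩ := max1 (N := N) (AV := AV) (AW := AW) (AP := AP) hk hk0 hkl hMN hM0
        (fun h => hMN1 (by omega))
      have enm : n - m = c * (N - M) + (k - l) := by omega
      refine ⟨S, by rw [hn]; exact h1, by rw [hn]; exact h2, ?_⟩
      rw [enm, hm', h3]
      constructor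
      · rintro (⟨h, hW⟩ | h | ⟨h, hP⟩)
        · exact Or.inr (Or.inr (Or.inl ⟨hk0, h, hW⟩))
        · exact Or.inr (Or.inr (Or.inr (Or.inl h)))
        · exact Or.inr (Or.inr (Or.inr (Or.inr ⟨hk0, h, hP⟩)))
      · rintro (⟨h, -⟩ | ⟨h, -⟩ | ⟨-, h, hW⟩ | h | ⟨-, h, hP⟩)
        · exact absurd h (by omega)
        · exact absurd h (by omega)
        · exact Or.inl ⟨h, hW⟩
        · exact Or.inr (Or.inl h)
        · exact Or.inr (Or.inr ⟨h, hP⟩)

end Cfsg.Agent.H958
end
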