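import Mathlib
import Cfsg.Prelude.Def_GeometricClasses
import Cfsg.Agent.H958.Crit_mg
set_option linter.all false

/-!
# Transfer to matrices and the final form of the criterion

`Q : QuadraticForm F (ι → F)` with nondegenerate polar form, `F` finite, `5 ≤ card ι`.
-/

set_option autoImplicit false

namespace Cfsg.Agent.H958

open Module QuadraticMap Cfsg.Agent.LieClassical.OrthCore Cfsg.Agent.LieClassical.OrthTrans
  Cfsg.Agent.LieClassical.OrthFinite Cfsg.Agent.H955
open scoped MatrixGroups Matrix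

section Gen

variable {F V : Type*} [Field F] [AddCommGroup V] [Module F V] {Q : QuadraticForm F V}

theorem exists_Q_ne_zero (hG : Good Q) : ∃ v, Q v ≠ 0 := by
  have hd := hG.dim
  exact exists_aniso_vec hG.nondeg (by omega)

theorem sq_eq_one_of_scalar (hG : Good Q) {T : V ≃ₗ[F] V} (hT : T ∈ O Q) {z : F} (h : ∀ v, T v = z • v) :
    z * z = 1 := by
  obtain ⟨v, hv⟩ := exists_Q_ne_zero hG
  have h1 := hT v
  rw [h, QuadraticMap.map_smul, smul_eq_mul] at h1
  exact mul_right_cancel₀ hv (h1.trans (one_mul _).symm)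

/-- minus the identity -/
theorem neg_mem_O : (LinearEquiv.neg F : V ≃ₗ[F] V) ∈ O Q := fun v => QuadraticMap.map_neg Q v

theorem neg_mul_pow (T : V ≃ₗ[F] V) {r : ℕ} (hr : Odd r) (v : V) :
    (((LinearEquiv.neg F : V ≃ₗ[F] V) * T) ^ r) v = - (T ^ r) v := by
  have h1 : Commute (LinearEquiv.neg F : V ≃ₗ[F] V) T := by
    ext v
    exact (map_neg T v).symm
  have h2 : ((LinearEquiv.neg F : V ≃ₗ[F] V)) ^ r = LinearEquiv.neg F := by
    obtain ⟨k, rfl⟩ := hr
    have h3 : ((LinearEquiv.neg F : V ≃ₗ[F] V)) ^ 2 = 1 := by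
      ext v
      rw [pow_two]
      exact neg_neg v
    rw [pow_add, pow_mul, h3, one_pow, one_mul, pow_one]
  rw [h1.mul_pow, h2]
  rfl

end Gen

section Matrix

variable {ι : Type} [Fintype ι] [DecidableEq ι] {F : Type*} [Field F] {Q : QuadraticForm F (ι → F)}

theorem nondegOn_iff {W : Submodule F (ι → F)} :
    Cfsg.Geo.IsNondegenerateOn (QuadraticMap.polar ⇑Q) W ↔ Nondeg (res Q W) := by
  rw [nondeg_res_iff]
  constructor
  · intro h x hx hxy
    by_contra h0
    obtain ⟨y, hy, hxy'⟩ := (h x hx h0).2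
    exact hxy' (hxy y hy)
  · intro h w hw hw0
    have h1 : ∃ x ∈ W, polar Q w x ≠ 0 := by
      by_contra hcon
      push Not at hcon
      exact hw0 (h w hw hcon)
    obtain ⟨x, hx, hxw⟩ := h1
    exact ⟨⟨x, hx, by rw [polar_comm]; exact hxw⟩, ⟨x, hx, hxw⟩⟩

theorem plusOn_iff {W : Submodule F (ι → F)} :
    Cfsg.Geo.IsPlusTypeOn (⇑Q) W ↔ IsPlus (res Q W) := by
  constructor
  · rintro ⟨U, hU, hU0, hd⟩
    refine ⟨U.comap W.subtype, fun u hu => hU0 _ hu, ?_⟩
    rw [(Submodule.comapSubtypeEquivOfLe hU).finrank_eq, hd]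
  · rintro ⟨U, hU0, hd⟩
    refine ⟨U.map W.subtype, Submodule.map_subtype_le _ _, ?_, ?_⟩
    · rintro _ ⟨u, hu, rfl⟩
      exact hU0 u hu
    · rw [← hd, Submodule.finrank_map_subtype_eq]

theorem mem_omegaGL_iff (hG : Good Q) (g : GL ι F) :
    g ∈ Cfsg.Geo.omegaGL ⇑Q ↔ glEquiv ι F g ∈ E Q := by
  have h : (Cfsg.Geo.omegaGL ⇑Q).map (glEquiv ι F).toMonoidHom = E Q := by
    rw [Cfsg.Geo.omegaGL, Subgroup.map_map]
    exact (map_Omega Q).trans hG.commutator_eq_E
  rw [← h]
  constructor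
  · intro hg
    exact ⟨g, hg, rfl⟩
  · rintro ⟨g', hg', e⟩
    have : g' = g := (glEquiv ι F).injective e
    rwa [← this]

theorem map_le_iff {g : GL ι F} {W : Submodule F (ι → F)} :
    W.map (Matrix.toLin' (g : Matrix ι ι F)) ≤ W ↔ ∀ v ∈ W, glEquiv ι F g v ∈ W := by
  rw [Submodule.map_le_iff_le_comap]
  rfl

theorem scalar_iff {g : GL ι F} {z : F} :
    (g : Matrix ι ι F) = z • (1 : Matrix ι ι F) ↔ ∀ v, glEquiv ι F g v = z • v := by
  constructor
  · intro h v
    rw [glEquiv_apply, h, Matrix.smul_mulVec, Matrix.one_mulVec]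
  · intro h
    ext a b
    have h1 := congrFun (h (Pi.single b 1)) a
    rw [glEquiv_apply, Matrix.mulVec_single_one, Matrix.col_apply] at h1
    rw [h1, Matrix.smul_apply, Matrix.one_apply, Pi.smul_apply, Pi.single_apply]

/-- Transfer for an odd exponent. -/
theorem transfer_odd (hG : Good Q) {r : ℕ} (hr : Odd r) (C : Submodule F (ι → F) → Prop) :
    (∀ x : GL ι F, x ∈ Cfsg.Geo.omegaGL ⇑Q →
      (∃ z : F, ((x ^ r : GL ι F) : Matrix ι ι F) = z • (1 : Matrix ι ι F)) →
      (∀ z : F, (x : Matrix ι ι F) ≠ z • (1 : Matrix ι ι F)) →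
      ∃ W : Submodule F (ι → F), C W ∧ W.map (Matrix.toLin' (x : Matrix ι ι F)) ≤ W) ↔
    (∀ T ∈ O Q, T ^ r = 1 → T ≠ 1 → ∃ W, C W ∧ ∀ v ∈ W, T v ∈ W) := by
  constructor
  · intro h T hT hTr hT1
    have hTE := mem_E_of_odd (Q := Q) hG hT hr hTr
    set x := (glEquiv ι F).symm T with hx
    have hxT : glEquiv ι F x = T := MulEquiv.apply_symm_apply _ _
    obtain ⟨W, hC, hW⟩ := h x ((mem_omegaGL_iff hG x).2 (by rw [hxT]; exact hTE)) ⟨1, by
      rw [scalar_iff]
      intro v
      rw [map_pow, hxT, hTr, one_smul]; rfl⟩ (by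
      intro z hz
      rw [scalar_iff, hxT] at hz
      have hzz := sq_eq_one_of_scalar hG hT hz
      apply hT1
      -- `T = z`, `z ^ r = 1`
      have h1 : ∀ (n : ℕ) v, (T ^ n) v = z ^ n • v := by
        intro n
        induction n with
        | zero => intro v; rw [pow_zero, pow_zero, one_smul]; rfl
        | succ n ih => intro v; rw [pow_succ, LinearEquiv.mul_apply, hz, ih, smul_smul, pow_succ]
      obtain ⟨k, hk⟩ := hr
      have h2 : z ^ r = z := by rw [hk, pow_add, pow_mul, pow_two, hzz, one_pow, one_mul, pow_one]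
      obtain ⟨v, hv⟩ := exists_Q_ne_zero hG
      have h3 := h1 r v
      rw [hTr, h2] at h3
      have h3' : v = z • v := h3
      have hz1 : z = 1 := by
        have hv0 : v ≠ 0 := by rintro rfl; exact hv (map_zero Q)
        have h4 : (z - 1) • v = 0 := by rw [sub_smul, one_smul, ← h3', sub_self]
        exact sub_eq_zero.1 ((smul_eq_zero.1 h4).resolve_right hv0)
      ext1 v
      rw [hz, hz1, one_smul]; rfl)
    exact ⟨W, hC, by rw [map_le_iff, hxT] at hW; exact hW⟩
  · rintro h x hx ⟨z, hz⟩ hx1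
    set T := glEquiv ι F x with hTdef
    have hTO : T ∈ O Q := E_le_O ((mem_omegaGL_iff hG x).1 hx)
    rw [scalar_iff, map_pow] at hz
    have hzz := sq_eq_one_of_scalar hG ((O Q).pow_mem hTO r) hz
    rcases mul_self_eq_one_iff.1 hzz with hz1 | hz1
    · obtain ⟨W, hC, hW⟩ := h T hTO (by
        ext1 v
        rw [hz, hz1, one_smul]; rfl) (by
        intro hT1
        apply hx1 1
        rw [scalar_iff, ← hTdef, hT1]
        intro v
        rw [one_smul]; rfl)
      exact ⟨W, hC, by rw [map_le_iff]; exact hW⟩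
    · obtain ⟨W, hC, hW⟩ := h (LinearEquiv.neg F * T) ((O Q).mul_mem neg_mem_O hTO) (by
        ext1 v
        rw [neg_mul_pow T hr, hz, hz1, neg_smul, one_smul, neg_neg]; rfl) (by
        intro hT1
        apply hx1 (-1)
        rw [scalar_iff, ← hTdef]
        intro v
        have h1 : -(T v) = v := congrArg (fun S : (ι → F) ≃ₗ[F] (ι → F) => S v) hT1
        rw [neg_smul, one_smul, ← h1, neg_neg, h1])
      refine ⟨W, hC, ?_⟩
      rw [map_le_iff]
      intro v hv
      have h1 : -(T v) ∈ W := hW v hv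
      exact (Submodule.neg_mem_iff W).1 h1

/-- Transfer for elements of odd prime order. -/
theorem transfer_orderOf (hG : Good Q) {r : ℕ} [Fact r.Prime] (hr : Odd r)
    (C : Submodule F (ι → F) → Prop) :
    (∀ x : GL ι F, x ∈ Cfsg.Geo.omegaGL ⇑Q → orderOf x = r →
      ∃ W : Submodule F (ι → F), C W ∧ W.map (Matrix.toLin' (x : Matrix ι ι F)) ≤ W) ↔
    (∀ T ∈ O Q, T ^ r = 1 → T ≠ 1 → ∃ W, C W ∧ ∀ v ∈ W, T v ∈ W) := by
  constructor
  · intro h T hT hTr hT1
    have hTE := mem_E_of_odd (Q := Q) hG hT hr hTr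
    set x := (glEquiv ι F).symm T with hx
    have hxT : glEquiv ι F x = T := MulEquiv.apply_symm_apply _ _
    obtain ⟨W, hC, hW⟩ := h x ((mem_omegaGL_iff hG x).2 (by rw [hxT]; exact hTE)) (by
      rw [← MulEquiv.orderOf_eq (glEquiv ι F), hxT]
      exact orderOf_eq_prime hTr hT1)
    exact ⟨W, hC, by rw [map_le_iff, hxT] at hW; exact hW⟩
  · rintro h x hx hx1
    have hTO : glEquiv ι F x ∈ O Q := E_le_O ((mem_omegaGL_iff hG x).1 hx)
    obtain ⟨W, hC, hW⟩ := h _ hTO (by rw [← map_pow, ← hx1, pow_orderOf_eq_one, map_one]) (by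
      intro h1
      have : x = 1 := (glEquiv ι F).injective (h1.trans (map_one _).symm)
      rw [this, orderOf_one] at hx1
      exact (Fact.out : r.Prime).one_lt.ne hx1)
    exact ⟨W, hC, by rw [map_le_iff]; exact hW⟩

end Matrix

end Cfsg.Agent.H958
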