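import Mathlib
import Cfsg.Agent.H958.Bridge
set_option linter.all false

-- part: H958/Main
section
/-!
# The criterion for odd prime order, numerical form
-/

set_option autoImplicit false

namespace Cfsg.Agent.H958

open Module QuadraticMap Cfsg.Agent.LieClassical.OrthCore Cfsg.Agent.LieClassical.OrthTrans
  Cfsg.Agent.H955

universe u v
variable {F : Type u} [Field F] [Finite F] {r : ℕ} [Fact r.Prime]
  {V : Type v} [AddCommGroup V] [Module F V] [FiniteDimensional F V] {Q : QuadraticForm F V}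

/-- the type of `X` is the type of a sum of blocks filling `X`. -/
def AA (Q : QuadraticForm F V) (r : ℕ) (X : Submodule F V) : Prop :=
  IsPlus (res Q X) ↔ dl F r (finrank F X / bk F r)

omit [Finite F] [Fact r.Prime] [FiniteDimensional F V] in
theorem not_odd_bk_mul {X : Submodule F V} (h : Odd (finrank F X)) {j : ℕ} : bk F r * j ≠ finrank F X := by
  intro h1
  rw [← h1] at h
  exact (Nat.not_even_iff_odd.2 h) ((bk_even F r).mul_right _)

theorem fits_iff (hr : (r : F) ≠ 0) {X : Submodule F V} (hX : Nondeg (res Q X))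
    (h : Even (finrank F X) ∨ (2 : F) ≠ 0) {j : ℕ} :
    Fits Q r X j ↔ FN (bk F r) (finrank F X) (AA Q r X) j := by
  have hc := bk_pos (F := F) (r := r) hr
  have hdiv : bk F r * j = finrank F X → finrank F X / bk F r = j := fun h1 => by
    rw [← h1, Nat.mul_div_cancel_left _ hc]
  rcases Nat.even_or_odd (finrank F X) with he | ho
  · rw [fits_iff_even hr hX he, FN]
    refine or_congr_right (or_congr_right (and_congr_right fun h1 => ?_))
    rw [AA, hdiv h1]
  · rw [fits_iff_odd hr (h.resolve_left (Nat.not_even_iff_odd.2 ho)) hX ho, FN]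
    constructor
    · intro h1
      exact Or.inr (Or.inl h1)
    · rintro (h1 | h1 | ⟨h1, -⟩)
      · rw [h1, mul_zero]
        exact ho.pos
      · exact h1
      · exact absurd h1 (not_odd_bk_mul ho)

theorem iff_aux (a1 a2 a3 a4 : Prop) : ((a1 ↔ a2) ↔ (a3 ↔ a4)) ↔ ((a1 ↔ a3) ↔ (a2 ↔ a4)) := by
  by_cases h1 : a1 <;> by_cases h2 : a2 <;> by_cases h3 : a3 <;> by_cases h4 : a4 <;>
    simp [h1, h2, h3, h4]

theorem AA_split (hr : (r : F) ≠ 0) (hQ : Nondeg Q) {W : Submodule F V} (hW : Nondeg (res Q W))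
    (h1 : finrank F V % bk F r = 0) (h2 : finrank F W % bk F r = 0) :
    AA Q r ⊤ ↔ (AA Q r W ↔ AA Q r (perp Q W)) := by
  have hc := bk_pos (F := F) (r := r) hr
  obtain ⟨N, hN⟩ := Nat.dvd_of_mod_eq_zero h1
  obtain ⟨M, hM⟩ := Nat.dvd_of_mod_eq_zero h2
  have hd := finrank_add_perp hQ W
  have hle : M ≤ N := by
    have h3 : bk F r * M ≤ bk F r * N := by omega
    exact le_of_mul_le_mul_left h3 hc
  have hP : finrank F (perp Q W) = bk F r * (N - M) := by
    rw [Nat.mul_sub]; omega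
  have he : IsPlus Q ↔ (IsPlus (res Q W) ↔ IsPlus (res Q (perp Q W))) :=
    isPlus_iff_perp hQ hW (by rw [hN]; exact (bk_even F r).mul_right _)
      (by rw [hM]; exact (bk_even F r).mul_right _)
  have htop : IsPlus (res Q (⊤ : Submodule F V)) ↔ IsPlus Q :=
    isPlus_iff_of_equiv (LinearEquiv.ofTop ⊤ rfl) (fun _ => rfl)
  have hdl := dl_add F r M (N - M)
  rw [Nat.add_sub_cancel' hle] at hdl
  have e1 : AA Q r ⊤ ↔ (IsPlus Q ↔ dl F r N) := by
    rw [AA, finrank_top, hN, Nat.mul_div_cancel_left _ hc, htop]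
  have e2 : AA Q r W ↔ (IsPlus (res Q W) ↔ dl F r M) := by
    rw [AA, hM, Nat.mul_div_cancel_left _ hc]
  have e3 : AA Q r (perp Q W) ↔ (IsPlus (res Q (perp Q W)) ↔ dl F r (N - M)) := by
    rw [AA, hP, Nat.mul_div_cancel_left _ hc]
  rw [e1, e2, e3, he, hdl]
  exact iff_aux _ _ _ _

/-- **The criterion**, numerical form. -/
theorem main (hr2 : 2 < r) (hr : (r : F) ≠ 0) (hQ : Nondeg Q) {W : Submodule F V}
    (hW : Nondeg (res Q W)) (hW0 : 0 < finrank F W) (hWn : finrank F W < finrank F V)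
    (h2 : (Even (finrank F V) ∧ Even (finrank F W)) ∨ (2 : F) ≠ 0)
    (C : Submodule F V → Prop) (hC : ∀ W', C W' ↔ ∃ g ∈ O Q, W.map (g : V →ₗ[F] V) = W')
    (hdvd : r ∣ Nat.card {W' : Submodule F V // C W'}) :
    ((∀ T ∈ O Q, T ^ r = 1 → T ≠ 1 → ∃ W', C W' ∧ ∀ v ∈ W', T v ∈ W') ↔
      Crit (bk F r) (finrank F V) (finrank F W) (AA Q r ⊤) (AA Q r W) (AA Q r (perp Q W))) ∧
    (Crit (bk F r) (finrank F V) (finrank F W) (AA Q r ⊤) (AA Q r W) (AA Q r (perp Q W)) →
      bk F r ≤ finrank F W ∧ bk F r ≤ finrank F V - finrank F W) := by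
  have hc := bk_pos (F := F) (r := r) hr
  have hd := finrank_add_perp hQ W
  have hPn := nondeg_perp hQ hW
  have hPd : finrank F (perp Q W) = finrank F V - finrank F W := by omega
  have htop : Nondeg (res Q (⊤ : Submodule F V)) :=
    nondeg_of_equiv (LinearEquiv.ofTop ⊤ rfl).symm (fun _ => rfl) hQ
  obtain ⟨S, hS1, hS2, hS3⟩ := exists_max (c := bk F r) (n := finrank F V) (m := finrank F W)
    (AV := AA Q r ⊤) (AW := AA Q r W) (AP := AA Q r (perp Q W)) hc hW0 hWn (AA_split hr hQ hW)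
  have eV : ∀ j, Fits Q r (⊤ : Submodule F V) j ↔ FN (bk F r) (finrank F V) (AA Q r ⊤) j := by
    intro j
    rw [fits_iff hr htop (h2.imp (fun h => by rw [finrank_top]; exact h.1) id), finrank_top]
  have eW : ∀ j, Fits Q r W j ↔ FN (bk F r) (finrank F W) (AA Q r W) j := fun j =>
    fits_iff hr hW (h2.imp (fun h => h.2) id)
  have eP : ∀ j, Fits Q r (perp Q W) j ↔
      FN (bk F r) (finrank F V - finrank F W) (AA Q r (perp Q W)) j := by
    intro j
    rw [fits_iff hr hPn (h2.imp (fun h => by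
      rw [hPd]; exact (Nat.even_sub hWn.le).2 (iff_of_true h.1 h.2)) id), hPd]
  have hS' : ∀ s, Fits Q r (⊤ : Submodule F V) s → s ≤ S := fun s hs => hS2 s ((eV s).1 hs)
  have hcard : Nat.card {W' : Submodule F V // C W'} =
      Nat.card {W' : Submodule F V // ∃ g ∈ O Q, W.map (g : V →ₗ[F] V) = W'} :=
    Nat.card_congr (Equiv.subtypeEquivRight hC)
  obtain ⟨hx1, hx2⟩ := not_fits_of_dvd hr2 hr hQ (W := W) hS' (by rw [← hcard]; exact hdvd)
  constructor
  · rw [← hS3, ← exists_congr fun j => and_congr_right fun _ => and_congr (eW j) (eP (S - j)),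
      ← elusive_iff hr2 hr hQ hW ((eV S).2 hS1) hS']
    refine forall₄_congr fun T hT hTr hT1 => ?_
    constructor
    · rintro ⟨W', hCW, h⟩
      obtain ⟨g, hg, rfl⟩ := (hC W').1 hCW
      exact ⟨g, hg, h⟩
    · rintro ⟨g, hg, h⟩
      exact ⟨_, (hC _).2 ⟨g, hg, rfl⟩, h⟩
  · intro hcrit
    obtain ⟨j, hj, hj1, hj2⟩ := hS3.2 hcrit
    have hj1' := (eW j).2 hj1
    have hj2' := (eP (S - j)).2 hj2
    have hj0 : j ≠ 0 := by
      rintro rfl
      exact hx1 hj2'
    have hjS : S - j ≠ 0 := by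
      intro h0
      have : j = S := by omega
      exact hx2 (this ▸ hj1')
    have h1 := hj1'.le
    have h3 := hj2'.le
    rw [hPd] at h3
    exact ⟨le_trans (Nat.le_mul_of_pos_right _ (by omega)) h1,
      le_trans (Nat.le_mul_of_pos_right _ (by omega)) h3⟩

/-- the class of subspaces of given even dimension and type -/
theorem class_even (hQ : Nondeg Q) {W : Submodule F V} (hW : Nondeg (res Q W))
    (hWe : Even (finrank F W)) (W' : Submodule F V) :
    (finrank F W' = finrank F W ∧ Nondeg (res Q W') ∧ (IsPlus (res Q W') ↔ IsPlus (res Q W))) ↔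
      ∃ g ∈ O Q, W.map (g : V →ₗ[F] V) = W' := by
  constructor
  · rintro ⟨h1, h2, h3⟩
    obtain ⟨e, he⟩ := exists_equiv_of_isPlus_iff hW h2 hWe h1.symm h3.symm
    exact exists_conj hQ e he
  · rintro ⟨g, hg, rfl⟩
    exact ⟨finrank_map' g W, nondeg_map hg hW, isPlus_map hg W⟩

omit [Finite F] in
/-- the class of subspaces isometric to a given one -/
theorem class_isom {ι : Type} [Fintype ι] {Q : QuadraticForm F (ι → F)} (hQ : Nondeg Q)
    {W : Submodule F (ι → F)} (hW : Nondeg (res Q W)) (W' : Submodule F (ι → F)) :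
    (finrank F W' = finrank F W ∧ Nondeg (res Q W') ∧ Cfsg.Geo.AreIsometricFor ⇑Q W' W) ↔
      ∃ g ∈ O Q, W.map (g : (ι → F) →ₗ[F] (ι → F)) = W' := by
  constructor
  · rintro ⟨-, -, e, he⟩
    refine exists_conj hQ e.symm fun w => ?_
    have h1 := he (e.symm w)
    rw [e.apply_symm_apply] at h1
    exact h1.symm
  · rintro ⟨g, hg, rfl⟩
    refine ⟨finrank_map' g W, nondeg_map hg hW, (mapEquiv g W).symm, fun w => ?_⟩
    obtain ⟨u, rfl⟩ := (mapEquiv g W).surjective w
    rw [LinearEquiv.symm_apply_apply]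
    exact (Q_mapEquiv hg W u).symm

end Cfsg.Agent.H958
end

-- part: H958/Invol
section
/-!
# Involutions in odd characteristic
-/

set_option autoImplicit false

namespace Cfsg.Agent.H958

open Module QuadraticMap Cfsg.Agent.LieClassical.OrthCore Cfsg.Agent.LieClassical.OrthTrans
  Cfsg.Agent.H955

universe u v
variable {F : Type u} [Field F]
  {V : Type v} [AddCommGroup V] [Module F V] [FiniteDimensional F V] {Q : QuadraticForm F V}

/-- nondegenerate subspaces of every dimension -/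
theorem exists_nd_subspace (h2 : (2 : F) ≠ 0) (hQ : Nondeg Q) (b : ℕ) (hb : b ≤ finrank F V) :
    ∃ B : Submodule F V, Nondeg (res Q B) ∧ finrank F B = b := by
  induction b with
  | zero =>
    refine ⟨⊥, ?_, finrank_bot F V⟩
    rw [nondeg_res_iff]
    intro x hx _
    exact (Submodule.mem_bot F).1 hx
  | succ b ih =>
    obtain ⟨B, hB, hBd⟩ := ih (by omega)
    have h1 := finrank_add_perp hQ B
    obtain ⟨v, hv⟩ := exists_aniso_vec (nondeg_perp hQ hB) (by omega)
    have h3 : (F ∙ (v : V)) ≤ perp Q B := by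
      rw [Submodule.span_singleton_le_iff_mem]; exact v.2
    have hv' : Q (v : V) ≠ 0 := hv
    refine ⟨B ⊔ F ∙ (v : V), nondeg_sup hB (nondeg_span h2 hv') h3, ?_⟩
    rw [finrank_sup_perp hB h3, hBd, finrank_span_aniso hv']

theorem exists_nd_subspace_le (h2 : (2 : F) ≠ 0) {U : Submodule F V} (hU : Nondeg (res Q U)) (b : ℕ)
    (hb : b ≤ finrank F U) : ∃ B ≤ U, Nondeg (res Q B) ∧ finrank F B = b := by
  obtain ⟨B, hB, hBd⟩ := exists_nd_subspace h2 hU b hb
  obtain ⟨e, he⟩ := exists_res_equiv (Q := Q) U B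
  refine ⟨B.map U.subtype, Submodule.map_subtype_le _ _, nondeg_of_equiv e he hB, ?_⟩
  rw [← e.finrank_eq, hBd]

theorem exists_split_map [Finite F] (h2 : (2 : F) ≠ 0) (hQ : Nondeg Q) {W₀ U : Submodule F V}
    (hW₀ : Nondeg (res Q W₀)) (hU : Nondeg (res Q U)) (hu : 2 ≤ finrank F U)
    (hm : 0 < finrank F W₀) (hmn : finrank F W₀ < finrank F V) :
    ∃ g ∈ O Q, ∃ A ≤ U, ∃ B ≤ perp Q U, W₀.map (g : V →ₗ[F] V) = A ⊔ B := by
  have hUd := finrank_add_perp hQ U
  obtain ⟨a, b, hab, ha0, hau, hb⟩ : ∃ a b, a + b = finrank F W₀ ∧ 0 < a ∧ a < finrank F U ∧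
      b ≤ finrank F (perp Q U) := by
    refine ⟨max 1 (finrank F W₀ - finrank F (perp Q U)),
      finrank F W₀ - max 1 (finrank F W₀ - finrank F (perp Q U)), ?_, ?_, ?_, ?_⟩ <;> omega
  obtain ⟨B, hBU, hB, hBd⟩ := exists_nd_subspace_le h2 (nondeg_perp hQ hU) b hb
  obtain ⟨f, hf, hfQ⟩ := exists_embedding_odd h2 _ hB hBd hW₀ (by omega)
  obtain ⟨hB', hBd', -⟩ := range_props (Q := res Q W₀) hB hf hfQ
  have hCn := nondeg_perp hW₀ hB'
  have hCd := finrank_add_perp hW₀ (LinearMap.range f)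
  obtain ⟨f', hf', hfQ'⟩ := exists_embedding_odd h2 _ hCn rfl hU (by omega)
  let eB : B ≃ₗ[F] LinearMap.range f := LinearEquiv.ofInjective f hf
  let Φ₀ : (LinearMap.range f × perp (res Q W₀) (LinearMap.range f)) →ₗ[F] V :=
    LinearMap.coprod (B.subtype ∘ₗ eB.symm.toLinearMap) (U.subtype ∘ₗ f')
  have hΦ₀ : ∀ p, Φ₀ p = (eB.symm p.1 : V) + (f' p.2 : V) := fun _ => rfl
  have heB : ∀ y, Q (eB.symm y : V) = Q ((y : W₀) : V) := by
    intro y
    obtain ⟨z, rfl⟩ := eB.surjective y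
    rw [LinearEquiv.symm_apply_apply]
    exact (hfQ z).symm
  have hΦQ : ∀ p, Q (Φ₀ p) = Q (decomp hB' p : V) := by
    intro p
    have h3 : polar Q (eB.symm p.1 : V) (f' p.2 : V) = 0 := by
      rw [polar_comm]
      exact hBU (eB.symm p.1).2 _ (f' p.2).2
    have h4 : Q (f' p.2 : V) = Q ((p.2 : W₀) : V) := hfQ' p.2
    have h5 := Q_decomp hB' p
    rw [res_apply, res_apply, res_apply] at h5
    rw [h5, hΦ₀, Q_add, h3, heB, h4, add_zero]
  have hinj : Function.Injective Φ₀ := by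
    rw [← LinearMap.ker_eq_bot, LinearMap.ker_eq_bot']
    intro p hp
    rw [hΦ₀] at hp
    have h6 : (f' p.2 : V) ∈ perp Q U := by
      have : (f' p.2 : V) = -(eB.symm p.1 : V) := by rw [← add_eq_zero_iff_eq_neg', hp]
      rw [this]
      exact Submodule.neg_mem _ (hBU (eB.symm p.1).2)
    have h7 : (f' p.2 : V) = 0 := by
      have := (isCompl_perp hU).disjoint
      exact Submodule.disjoint_def.1 this _ (f' p.2).2 h6
    have h8 : f' p.2 = 0 := Subtype.ext h7
    have h9 : p.2 = 0 := by rw [← LinearMap.ker_eq_bot, LinearMap.ker_eq_bot'] at hf'; exact hf' _ h8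
    rw [h7, add_zero] at hp
    have h10 : eB.symm p.1 = 0 := Subtype.ext hp
    exact Prod.ext ((LinearEquiv.map_eq_zero_iff _).1 h10) h9
  obtain ⟨g, hg, hgΦ⟩ := witt_maps hQ W₀.subtype (Φ₀ ∘ₗ (decomp hB').symm.toLinearMap)
    W₀.injective_subtype (hinj.comp (decomp hB').symm.injective) (fun w => by
      change Q (Φ₀ ((decomp hB').symm w)) = Q (w : V)
      rw [hΦQ, LinearEquiv.apply_symm_apply])
  refine ⟨g, hg, LinearMap.range (U.subtype ∘ₗ f'), ?_, LinearMap.range (B.subtype ∘ₗ eB.symm.toLinearMap),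
    ?_, ?_⟩
  · rintro _ ⟨x, rfl⟩
    exact (f' x).2
  · rintro _ ⟨x, rfl⟩
    exact hBU (eB.symm x).2
  · rw [sup_comm, ← LinearMap.range_coprod]
    ext v
    constructor
    · rintro ⟨w, hw, rfl⟩
      refine ⟨(decomp hB').symm ⟨w, hw⟩, ?_⟩
      exact (hgΦ ⟨w, hw⟩).symm
    · rintro ⟨p, rfl⟩
      refine ⟨_, (decomp hB' p).2, ?_⟩
      have := hgΦ (decomp hB' p)
      change _ = Φ₀ ((decomp hB').symm _) at this
      rw [LinearEquiv.symm_apply_apply] at this
      exact this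

/-- an involution different from `±1` fixes a member of every class of nondegenerate subspaces -/
theorem invol_fix [Finite F] (h2 : (2 : F) ≠ 0) (hQ : Nondeg Q) (hn : 3 ≤ finrank F V) {T : V ≃ₗ[F] V}
    (hT : T ∈ O Q) (hTT : T ^ 2 = 1) (h1 : T ≠ 1) (h1' : ¬ ∀ v, T v = -v) {W₀ : Submodule F V}
    (hW₀ : Nondeg (res Q W₀)) (hm : 0 < finrank F W₀) (hmn : finrank F W₀ < finrank F V) :
    ∃ g ∈ O Q, ∀ v ∈ W₀.map (g : V →ₗ[F] V), T v ∈ W₀.map (g : V →ₗ[F] V) := by
  have h2' : ((2 : ℕ) : F) ≠ 0 := by exact_mod_cast h2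
  have hTTv : ∀ v, T (T v) = v := fun v => by
    have := congrArg (fun S : V ≃ₗ[F] V => S v) hTT
    rwa [pow_two] at this
  have hcn := nondeg_comS hQ hT h2' hTT
  have hperp := perp_comS_eq hQ hT
  have hd := finrank_fixS_add_comS T
  have hc : ∀ v ∈ comS T, T v = -v := by
    intro v hv
    obtain ⟨w, rfl⟩ := mem_comS.1 hv
    rw [map_sub, hTTv]
    abel
  have hf : ∀ v ∈ fixS T, T v = v := fun v hv => mem_fixS.1 hv
  have hc0 : finrank F (comS T) ≠ 0 := by
    intro h0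
    apply h1
    ext v
    have h3 : T v - v ∈ comS T := mem_comS.2 ⟨v, rfl⟩
    rw [Submodule.finrank_eq_zero] at h0
    rw [h0, Submodule.mem_bot] at h3
    exact sub_eq_zero.1 h3
  have hf0 : finrank F (fixS T) ≠ 0 := by
    intro h0
    apply h1'
    intro v
    apply hc
    have : comS T = ⊤ := Submodule.eq_top_of_finrank_eq (by omega)
    rw [this]
    trivial
  by_cases hcd : 2 ≤ finrank F (comS T)
  · obtain ⟨g, hg, A, hA, B, hB, e⟩ := exists_split_map h2 hQ hW₀ hcn hcd hm hmn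
    refine ⟨g, hg, ?_⟩
    rw [e]
    rw [hperp] at hB
    intro v hv
    obtain ⟨a, ha, b, hb, rfl⟩ := Submodule.mem_sup.1 hv
    rw [map_add, hc a (hA ha), hf b (hB hb)]
    exact Submodule.add_mem_sup (A.neg_mem ha) hb
  · have hfn : Nondeg (res Q (fixS T)) := by rw [← hperp]; exact nondeg_perp hQ hcn
    obtain ⟨g, hg, A, hA, B, hB, e⟩ := exists_split_map h2 hQ hW₀ hfn (by omega) hm hmn
    refine ⟨g, hg, ?_⟩
    rw [e]
    rw [← hperp, perp_perp hQ] at hB
    intro v hv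
    obtain ⟨a, ha, b, hb, rfl⟩ := Submodule.mem_sup.1 hv
    rw [map_add, hf a (hA ha), hc b (hB hb)]
    exact Submodule.add_mem_sup ha (B.neg_mem hb)

end Cfsg.Agent.H958
end
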