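import Mathlib
import Cfsg.Agent.H958.Invol
import Cfsg.Agent.H955.QCount
set_option linter.all false

/-!
# Isometries with square `-1`

Parity of the permutation of a level set.
-/

set_option autoImplicit false

namespace Cfsg.Agent.H958

open Module QuadraticMap Cfsg.Agent.LieClassical.OrthCore Cfsg.Agent.LieClassical.OrthTrans
  Cfsg.Agent.H955
open scoped commutatorElement

/-- a permutation with fixed point free square and fourth power one -/
theorem sign_four {α : Type*} [Fintype α] [DecidableEq α] (σ : Equiv.Perm α) (h2 : ∀ a, σ (σ a) ≠ a)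
    (h4 : ∀ a, σ (σ (σ (σ a))) = a) :
    ∃ k, Fintype.card α = 4 * k ∧ Equiv.Perm.sign σ = (-1) ^ k := by
  have h4' : σ ^ 4 = 1 := by
    ext a
    change σ (σ (σ (σ a))) = a
    exact h4 a
  have hsupp : σ.support = Finset.univ := by
    ext a
    simp only [Equiv.Perm.mem_support, Finset.mem_univ, iff_true]
    intro h
    exact h2 a (by rw [h, h])
  have hcyc : ∀ n ∈ σ.cycleType, n = 4 := by
    intro n hn
    have hn2 := Equiv.Perm.two_le_of_mem_cycleType hn
    have hd : n ∣ 4 := (Equiv.Perm.dvd_of_mem_cycleType hn).trans (orderOf_dvd_of_pow_eq_one h4')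
    have hne2 : n ≠ 2 := by
      rintro rfl
      obtain ⟨c, τ, hστ, hd, hc, hcard⟩ := Equiv.Perm.mem_cycleType_iff.1 hn
      obtain ⟨a, ha⟩ := hc.nonempty_support
      have h1 : ∀ b ∈ c.support, σ b = c b := by
        intro b hb
        rw [hστ, Equiv.Perm.mul_apply]
        congr 1
        by_contra hcon
        exact (Finset.disjoint_left.1 (Equiv.Perm.disjoint_iff_disjoint_support.1 hd) hb)
          (Equiv.Perm.mem_support.2 hcon)
      have h3 : c ^ 2 = 1 := by
        have := pow_orderOf_eq_one c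
        rwa [hc.orderOf, hcard] at this
      apply h2 a
      rw [h1 a ha, h1 (c a) (Equiv.Perm.apply_mem_support.2 ha)]
      exact congrArg (fun f : Equiv.Perm α => f a) h3
    have hle := Nat.le_of_dvd (by norm_num) hd
    interval_cases n
    · exact absurd rfl hne2
    · revert hd; decide
    · rfl
  have hrep : σ.cycleType = Multiset.replicate (Multiset.card σ.cycleType) 4 :=
    Multiset.eq_replicate.2 ⟨rfl, hcyc⟩
  refine ⟨Multiset.card σ.cycleType, ?_, ?_⟩
  · have h5 := Equiv.Perm.sum_cycleType σ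
    rw [hsupp, Finset.card_univ] at h5
    rw [← h5]
    conv_lhs => rw [hrep]
    rw [Multiset.sum_replicate, smul_eq_mul, mul_comm]
  · rw [Equiv.Perm.sign_of_cycleType]
    have h6 : σ.cycleType.sum = 4 * Multiset.card σ.cycleType := by
      conv_lhs => rw [hrep]
      rw [Multiset.sum_replicate, smul_eq_mul, mul_comm]
    rw [h6, pow_add, pow_mul]
    norm_num

universe u v
variable {F : Type u} [Field F] {V : Type v} [AddCommGroup V] [Module F V] {Q : QuadraticForm F V}

/-- the action on a level set -/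
def levelHom (Q : QuadraticForm F V) (c : F) : O Q →* Equiv.Perm {v : V // Q v = c} where
  toFun g :=
    { toFun := fun v => ⟨(g : V ≃ₗ[F] V) v, by rw [g.2]; exact v.2⟩
      invFun := fun v => ⟨(g⁻¹ : V ≃ₗ[F] V) v, by rw [(O Q).inv_mem g.2]; exact v.2⟩
      left_inv := fun v => Subtype.ext ((g : V ≃ₗ[F] V).symm_apply_apply v)
      right_inv := fun v => Subtype.ext ((g : V ≃ₗ[F] V).apply_symm_apply v) }
  map_one' := rfl
  map_mul' _ _ := rfl

theorem levelHom_apply (c : F) (g : O Q) (v : {v : V // Q v = c}) :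
    (levelHom Q c g v : V) = (g : V ≃ₗ[F] V) v := rfl

theorem sign_level [Finite F] [FiniteDimensional F V] (hG : Good Q) (c : F) {T : V ≃ₗ[F] V}
    (hT : T ∈ E Q) [Fintype {v : V // Q v = c}] [DecidableEq {v : V // Q v = c}] :
    Equiv.Perm.sign (levelHom Q c ⟨T, E_le_O hT⟩) = 1 := by
  have key : ⁅O Q, O Q⁆ ≤ ((Equiv.Perm.sign.comp (levelHom Q c)).ker).map (O Q).subtype := by
    rw [Subgroup.commutator_le]
    intro g₁ h₁ g₂ h₂
    refine ⟨⁅(⟨g₁, h₁⟩ : O Q), (⟨g₂, h₂⟩ : O Q)⁆, ?_, rfl⟩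
    rw [SetLike.mem_coe, MonoidHom.mem_ker, map_commutatorElement, commutatorElement_eq_one_iff_mul_comm]
    exact mul_comm _ _
  rw [hG.commutator_eq_E] at key
  obtain ⟨y, hy, hyT⟩ := key hT
  have : y = ⟨T, E_le_O hT⟩ := Subtype.ext hyT
  rw [this] at hy
  exact hy

/-- the arithmetic of an isometry in `E Q` with square `-1` -/
theorem four_dvd_of_sq [Finite F] [FiniteDimensional F V] (h2 : (2 : F) ≠ 0) (hG : Good Q) {T : V ≃ₗ[F] V}
    (hT : T ∈ E Q) (hTT : ∀ v, T (T v) = -v) : 8 ∣ Nat.card {v : V // Q v = 1} := by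
  classical
  have : Finite V := Module.finite_of_finite F
  have := Fintype.ofFinite V
  have hv0 : ∀ v : {v : V // Q v = 1}, (v : V) ≠ 0 := by
    rintro ⟨v, hv⟩ h0
    have h0' : v = 0 := h0
    rw [h0', map_zero] at hv
    exact zero_ne_one hv
  obtain ⟨k, hk, hs⟩ := sign_four (levelHom Q 1 ⟨T, E_le_O hT⟩) (by
    intro v h
    have h1 := congrArg Subtype.val h
    rw [levelHom_apply, levelHom_apply] at h1
    change T (T (v : V)) = v at h1
    rw [hTT] at h1
    apply hv0 v
    have h3 : (2 : F) • (v : V) = 0 := by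
      rw [two_smul]
      nth_rewrite 1 [← h1]
      exact neg_add_cancel _
    exact (smul_eq_zero.1 h3).resolve_left h2) (by
    intro v
    apply Subtype.ext
    rw [levelHom_apply, levelHom_apply, levelHom_apply, levelHom_apply]
    change T (T (T (T (v : V)))) = v
    rw [hTT, hTT, neg_neg])
  rw [sign_level hG 1 hT] at hs
  have hke : Even k := by
    rcases Nat.even_or_odd k with h | h
    · exact h
    · rw [h.neg_one_pow] at hs
      exact absurd hs (by decide)
  obtain ⟨l, rfl⟩ := hke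
  rw [Nat.card_eq_fintype_card, hk]
  exact ⟨l, by ring⟩

/-- in dimension `2d`, `d` odd: the field order modulo 8 -/
theorem mod_eight_of_sq [Finite F] [FiniteDimensional F V] (h2 : (2 : F) ≠ 0) (hG : Good Q) {d : ℕ}
    (hd : finrank F V = 2 * d) (hdo : Odd d) {T : V ≃ₗ[F] V}
    (hT : T ∈ E Q) (hTT : ∀ v, T (T v) = -v) :
    (IsPlus Q → Nat.card F % 8 = 1) ∧ (¬ IsPlus Q → Nat.card F % 8 = 7) := by
  have h8 := four_dvd_of_sq h2 hG hT hTT
  have hodd : Odd (Nat.card F) := by
    have := Fintype.ofFinite F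
    rw [Nat.card_eq_fintype_card]
    by_contra hcon
    rw [Nat.not_odd_iff_even] at hcon
    obtain ⟨p, hp⟩ := CharP.exists F
    obtain ⟨n, hpp, hn⟩ := FiniteField.card F p
    rw [hn, Nat.even_pow] at hcon
    have h3 : p = 2 := (Nat.Prime.even_iff hpp).1 hcon.1
    apply h2
    have h4 := CharP.cast_eq_zero F p
    rw [h3] at h4
    exact_mod_cast h4
  set q := Nat.card F with hq
  have hq2 : (q : ZMod 8) ^ 2 = 1 := by
    have h5 : q % 8 = 1 ∨ q % 8 = 3 ∨ q % 8 = 5 ∨ q % 8 = 7 := by
      obtain ⟨k, hk⟩ := hodd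
      omega
    have h6 : (q : ZMod 8) = ((q % 8 : ℕ) : ZMod 8) := by simp
    rw [h6]
    rcases h5 with h | h | h | h <;> rw [h] <;> decide
  have hqd : (q : ZMod 8) ^ d = q := by
    obtain ⟨k, hk⟩ := hdo
    rw [hk, pow_add, pow_mul, hq2, one_pow, one_mul, pow_one]
  have hq2d : (q : ZMod 8) ^ (2 * d) = 1 := by rw [pow_mul, hq2, one_pow]
  have hN : ((Nat.card {v : V // Q v = 1} : ℕ) : ZMod 8) = 0 := by
    rw [ZMod.natCast_eq_zero_iff]; exact h8
  have hfin : ∀ a : ℕ, a < 8 → (q : ZMod 8) = a → q % 8 = a := by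
    intro a ha h
    have h7 := congrArg ZMod.val h
    rw [ZMod.val_natCast, ZMod.val_natCast, Nat.mod_eq_of_lt ha] at h7
    exact h7
  constructor
  · intro hP
    have h9 := congrArg (fun x : ℕ => (x : ZMod 8)) (card_eq_one_of_isPlus hG.nondeg hd hP)
    push_cast at h9
    rw [← hq, hN, mul_zero, zero_add, hqd, hq2d] at h9
    exact hfin 1 (by norm_num) (by rw [h9]; rfl)
  · intro hP
    have h9 := congrArg (fun x : ℕ => (x : ZMod 8)) (card_eq_one_of_not_isPlus hG.nondeg hd hP)
    push_cast at h9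
    rw [← hq, hN, mul_zero, hqd, hq2d] at h9
    refine hfin 7 (by norm_num) ?_
    have h10 : (q : ZMod 8) = -1 := by
      rw [eq_neg_iff_add_eq_zero, add_comm]; exact h9.symm
    rw [h10]; rfl

end Cfsg.Agent.H958
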