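import Mathlib
import Cfsg.Agent.H958.Crit_mg
import Cfsg.Agent.S0752
import Cfsg.Agent.H958.Glue
import Cfsg.Agent.H958.FourCycle
set_option linter.all false

-- part: H958/JTwo
section
/-!
# Products of commuting Siegel transformations
-/

set_option autoImplicit false

namespace Cfsg.Agent.H958

open Module QuadraticMap Cfsg.Agent.LieClassical.OrthCore Cfsg.Agent.LieClassical.OrthTrans
  Cfsg.Agent.H955 Cfsg.Agent.LieClassical.OrthFinite

universe u v w
variable {F : Type u} [Field F]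

section Rank

/-- dimension of a nondegenerate alternating space -/
theorem even_finrank_alt {U : Type v} [AddCommGroup U] [Module F U] [FiniteDimensional F U]
    (B : LinearMap.BilinForm F U) (hA : B.IsAlt) (hnd : ∀ u, (∀ v, B u v = 0) → u = 0) :
    Even (finrank F U) := by
  obtain ⟨m, l, b, h1, h2, h3, h4⟩ := Cfsg.Agent.S0752.result B hA
  have hl : l = 0 := by
    by_contra hl
    have := hnd _ (h4 ⟨0, Nat.pos_of_ne_zero hl⟩)
    exact b.ne_zero _ this
  subst hl
  have := Module.finrank_eq_card_basis b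
  simp at this
  exact ⟨m, by omega⟩

/-- the rank of an alternating form is even -/
theorem even_rank_alt {U : Type v} [AddCommGroup U] [Module F U] [FiniteDimensional F U]
    (B : LinearMap.BilinForm F U) (hA : B.IsAlt) (N : Submodule F U)
    (hN : ∀ u, u ∈ N ↔ ∀ v, B u v = 0) : ∃ k, finrank F U = finrank F N + 2 * k := by
  obtain ⟨C, hC⟩ := Submodule.exists_isCompl N
  have hd := Submodule.finrank_add_eq_of_isCompl hC
  obtain ⟨k, hk⟩ := even_finrank_alt (B.restrict C) (fun x => hA x) (by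
    intro u hu
    have h1 : (u : U) ∈ N := by
      rw [hN]
      intro v
      have hv : v ∈ N ⊔ C := by rw [hC.sup_eq_top]; trivial
      obtain ⟨a, ha, c, hc, rfl⟩ := Submodule.mem_sup.1 hv
      have h2 : B u a = 0 := by
        have h3 := (hN a).1 ha u
        rw [← hA.neg_eq, neg_eq_zero]
        exact h3
      rw [map_add, h2, zero_add]
      exact hu ⟨c, hc⟩
    exact Subtype.ext (Submodule.disjoint_def.1 hC.disjoint _ h1 u.2))
  exact ⟨k, by omega⟩

end Rank

variable {V : Type v} [AddCommGroup V] [Module F V] {Q : QuadraticForm F V}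

/-- `T - 1` -/
def nu (T : V ≃ₗ[F] V) : V →ₗ[F] V := (T : V →ₗ[F] V) - LinearMap.id

theorem nu_apply (T : V ≃ₗ[F] V) (v : V) : nu T v = T v - v := rfl

theorem range_nu (T : V ≃ₗ[F] V) : LinearMap.range (nu T) = comS T := rfl

theorem map_nu_le {T : V ≃ₗ[F] V} {W : Submodule F V} (h : ∀ w ∈ W, T w ∈ W) : W.map (nu T) ≤ W := by
  rintro _ ⟨w, hw, rfl⟩
  exact W.sub_mem (h w hw) hw

/-- additivity of the rank -/
theorem finrank_range_add [FiniteDimensional F V] (f : V →ₗ[F] V) {W P : Submodule F V}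
    (hc : IsCompl W P) (hW : W.map f ≤ W) (hP : P.map f ≤ P) :
    finrank F (LinearMap.range f) = finrank F (W.map f) + finrank F (P.map f) := by
  have h1 : LinearMap.range f = W.map f ⊔ P.map f := by
    rw [← Submodule.map_sup, hc.sup_eq_top, Submodule.map_top]
  have h2 : W.map f ⊓ P.map f = ⊥ := by
    rw [eq_bot_iff, ← hc.inf_eq_bot]
    exact inf_le_inf hW hP
  have h3 := Submodule.finrank_sup_add_finrank_inf_eq (W.map f) (P.map f)
  rw [h2, finrank_bot, add_zero] at h3
  rw [h1, h3]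

theorem map_comS_resT_eq [FiniteDimensional F V] {T : V ≃ₗ[F] V} {W : Submodule F V}
    (h : ∀ w ∈ W, T w ∈ W) : (comS (resT T W h)).map W.subtype = W.map (nu T) := by
  ext v
  constructor
  · rintro ⟨u, hu, rfl⟩
    obtain ⟨w, rfl⟩ := mem_comS.1 hu
    exact ⟨w, w.2, rfl⟩
  · rintro ⟨w, hw, rfl⟩
    exact ⟨resT T W h ⟨w, hw⟩ - ⟨w, hw⟩, sub_mem_comS _ _, rfl⟩

theorem finrank_comS_resT [FiniteDimensional F V] {T : V ≃ₗ[F] V} {W : Submodule F V}
    (h : ∀ w ∈ W, T w ∈ W) : finrank F (comS (resT T W h)) = finrank F (W.map (nu T)) := by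
  rw [← map_comS_resT_eq h, Submodule.finrank_map_subtype_eq]

/-- `T - 1` has square zero and is "alternating". -/
structure IsJTwo (Q : QuadraticForm F V) (T : V ≃ₗ[F] V) : Prop where
  mem : T ∈ O Q
  sq : ∀ v, T (T v - v) = T v - v
  alt : ∀ v, polar Q v (T v - v) = 0

namespace IsJTwo

variable {T : V ≃ₗ[F] V}

theorem sing (h : IsJTwo Q T) : ∀ u ∈ comS T, Q u = 0 := by
  intro u hu
  obtain ⟨v, rfl⟩ := mem_comS.1 hu
  have h1 := h.mem v
  have h2 : T v = v + (T v - v) := by abel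
  rw [h2, Q_add, h.alt, add_zero] at h1
  exact add_left_cancel (h1.trans (add_zero _).symm)

theorem res [FiniteDimensional F V] (h : IsJTwo Q T) {W : Submodule F V} (hW : ∀ w ∈ W, T w ∈ W) :
    IsJTwo (res Q W) (resT T W hW) where
  mem := resT_mem h.mem hW
  sq v := Subtype.ext (h.sq v)
  alt v := h.alt v

theorem pow_apply (h : IsJTwo Q T) (n : ℕ) (v : V) : (T ^ n) v = v + n • (T v - v) := by
  induction n with
  | zero => rw [pow_zero, zero_smul, add_zero]; rfl
  | succ n ih =>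
    rw [pow_succ', LinearEquiv.mul_apply, ih, map_add, map_nsmul, h.sq, succ_nsmul]
    abel

theorem pow_char (h : IsJTwo Q T) {p : ℕ} [CharP F p] : T ^ p = 1 := by
  ext v
  rw [h.pow_apply, ← Nat.cast_smul_eq_nsmul F, CharP.cast_eq_zero, zero_smul, add_zero]
  rfl

variable [FiniteDimensional F V]

theorem even (h : IsJTwo Q T) (hQ : Nondeg Q) : Even (finrank F (comS T)) := by
  let B : LinearMap.BilinForm F V := (polarBilin Q).compl₂ (nu T)
  obtain ⟨k, hk⟩ := even_rank_alt B (fun v => h.alt v) (fixS T) (by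
    intro u
    rw [← perp_comS_eq hQ h.mem, mem_perp']
    constructor
    · intro h1 v
      exact h1 _ (sub_mem_comS T v)
    · intro h1 w hw
      obtain ⟨v, rfl⟩ := mem_comS.1 hw
      exact h1 v)
  have h1 := finrank_fixS_add_comS T
  exact ⟨k, by omega⟩

theorem le (h : IsJTwo Q T) (hQ : Nondeg Q) : 2 * finrank F (comS T) ≤ finrank F V :=
  two_mul_finrank_le hQ h.sing

theorem plus (h : IsJTwo Q T) (hQ : Nondeg Q) (hd : finrank F V = 2 * finrank F (comS T)) : IsPlus Q :=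
  isPlus_of_le hQ h.sing hd.le

/-- the constraints on an invariant nondegenerate subspace -/
theorem split (h : IsJTwo Q T) (hQ : Nondeg Q) {W : Submodule F V} (hW : Nondeg (H955.res Q W))
    (hT : ∀ w ∈ W, T w ∈ W) :
    ∃ a b, finrank F (comS T) = a + b ∧ Even a ∧ Even b ∧ 2 * a ≤ finrank F W ∧
      2 * b ≤ finrank F (perp Q W) ∧ (finrank F W = 2 * a → IsPlus (H955.res Q W)) ∧
      (finrank F (perp Q W) = 2 * b → IsPlus (H955.res Q (perp Q W))) := by
  have hT' := map_mem_perp h.mem hT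
  have hP := nondeg_perp hQ hW
  refine ⟨finrank F (comS (resT T W hT)), finrank F (comS (resT T _ hT')), ?_, (h.res hT).even hW,
    (h.res hT').even hP, (h.res hT).le hW, (h.res hT').le hP, (h.res hT).plus hW,
    (h.res hT').plus hP⟩
  rw [finrank_comS_resT, finrank_comS_resT, ← range_nu]
  exact finrank_range_add (nu T) (isCompl_perp hW) (map_nu_le hT) (map_nu_le hT')

/-- not a scalar -/
theorem not_scalar (h : IsJTwo Q T) (hQ : Nondeg Q) (hpos : 0 < finrank F (comS T)) (z : F) :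
    ¬ ∀ v, T v = z • v := by
  intro hz
  by_cases hz1 : z = 1
  · have : comS T = ⊥ := by
      rw [Submodule.eq_bot_iff]
      intro u hu
      obtain ⟨v, rfl⟩ := mem_comS.1 hu
      rw [hz, hz1, one_smul, sub_self]
    rw [this, finrank_bot] at hpos
    exact lt_irrefl _ hpos
  · have hz0 : z - 1 ≠ 0 := sub_ne_zero.2 hz1
    have hd : 0 < finrank F V := lt_of_lt_of_le hpos (Submodule.finrank_le _)
    obtain ⟨v, hv⟩ := exists_aniso_vec hQ hd
    apply hv
    apply h.sing
    rw [mem_comS]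
    refine ⟨(z - 1)⁻¹ • v, ?_⟩
    rw [hz]
    nth_rewrite 2 [← one_smul F ((z - 1)⁻¹ • v)]
    rw [← sub_smul, smul_smul, mul_inv_cancel₀ hz0, one_smul]

end IsJTwo

/-- partial products of Siegel transformations -/
theorem exists_siegel_prod {k : ℕ} (a b : Fin k → V) (ha : ∀ i, Q (a i) = 0) (hb : ∀ i, Q (b i) = 0)
    (hab : ∀ i j, polar Q (a i) (b j) = 0) (haa : ∀ i j, polar Q (a i) (a j) = 0)
    (hbb : ∀ i j, polar Q (b i) (b j) = 0) (s : Finset (Fin k)) :
    ∃ T ∈ E Q, ∀ v, T v = v + ∑ i ∈ s, (polar Q (b i) v • a i - polar Q (a i) v • b i) := by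
  classical
  induction s using Finset.induction_on with
  | empty => exact ⟨1, (E Q).one_mem, fun v => by rw [Finset.sum_empty, add_zero]; rfl⟩
  | insert j s hj ih =>
    obtain ⟨T, hT, hTv⟩ := ih
    have hba : polar Q (b j) (a j) = 0 := by rw [polar_comm]; exact hab j j
    refine ⟨siegel Q (b j) (a j) (hb j) hba * T, (E Q).mul_mem (siegel_mem_E _ _) hT, fun v => ?_⟩
    have key : ∀ w, (∀ i, polar Q w (a i) = 0) → (∀ i, polar Q w (b i) = 0) →
        polar Q w (T v) = polar Q w v := by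
      intro w h1 h2
      rw [hTv]
      have : ∀ t : Finset (Fin k), polar Q w (v + ∑ i ∈ t, (polar Q (b i) v • a i - polar Q (a i) v • b i))
          = polar Q w v := by
        intro t
        induction t using Finset.induction_on with
        | empty => rw [Finset.sum_empty, add_zero]
        | insert i t hi iht =>
          rw [Finset.sum_insert hi, add_left_comm, polar_add_right, iht, polar_sub_right,
            polar_smul_right, polar_smul_right, h1, h2]
          simp
      exact this s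
    rw [LinearEquiv.mul_apply]
    have hs : ∀ x, siegel Q (b j) (a j) (hb j) hba x = x + polar Q (b j) x • a j - polar Q (a j) x • b j := by
      intro x
      have h3 : siegel Q (b j) (a j) (hb j) hba x = siegelLin Q (b j) (a j) x := rfl
      rw [h3, siegelLin_apply, ha, zero_mul, zero_smul, sub_zero]
    rw [hs, key (b j) (fun i => by rw [polar_comm]; exact hab i j) (fun i => hbb j i),
      key (a j) (fun i => haa j i) (fun i => hab j i), Finset.sum_insert hj, hTv]
    abel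

/-- **existence**: a totally singular subspace of even dimension is the commutator space of an
element of `E Q` with the properties above. -/
theorem exists_JTwo [FiniteDimensional F V] (hQ : Nondeg Q) {U : Submodule F V} (hU : ∀ u ∈ U, Q u = 0)
    {k : ℕ} (hd : finrank F U = 2 * k) :
    ∃ T ∈ E Q, IsJTwo Q T ∧ comS T = U := by
  let bas : Module.Basis (Fin k ⊕ Fin k) F U :=
    (Module.finBasisOfFinrankEq F U hd).reindex ((finCongr (two_mul k)).trans finSumFinEquiv.symm)
  let a : Fin k → V := fun i => bas (Sum.inl i)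
  let b : Fin k → V := fun i => bas (Sum.inr i)
  have haU : ∀ i, a i ∈ U := fun i => (bas (Sum.inl i)).2
  have hbU : ∀ i, b i ∈ U := fun i => (bas (Sum.inr i)).2
  have hpol : ∀ x ∈ U, ∀ y ∈ U, polar Q x y = 0 := fun x hx y hy => polar_eq_zero_of_tsing hU hx hy
  obtain ⟨T, hT, hTv⟩ := exists_siegel_prod (Q := Q) a b (fun i => hU _ (haU i)) (fun i => hU _ (hbU i))
    (fun i j => hpol _ (haU i) _ (hbU j)) (fun i j => hpol _ (haU i) _ (haU j))
    (fun i j => hpol _ (hbU i) _ (hbU j)) Finset.univ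
  have hν : ∀ v, T v - v = ∑ i, (polar Q (b i) v • a i - polar Q (a i) v • b i) := fun v => by
    rw [hTv]; abel
  have hmem : ∀ v, T v - v ∈ U := fun v => by
    rw [hν]
    exact U.sum_mem fun i _ => U.sub_mem (U.smul_mem _ (haU i)) (U.smul_mem _ (hbU i))
  have hfix : ∀ v ∈ perp Q U, T v = v := by
    intro v hv
    rw [← sub_eq_zero, hν]
    refine Finset.sum_eq_zero fun i _ => ?_
    rw [hv _ (haU i), hv _ (hbU i), zero_smul, zero_smul, sub_zero]
  have hUp : U ≤ perp Q U := fun x hx y hy => hpol y hy x hx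
  have hJ : IsJTwo Q T := by
    refine ⟨E_le_O hT, fun v => hfix _ (hUp (hmem v)), fun v => ?_⟩
    rw [hν]
    have : ∀ t : Finset (Fin k), polar Q v (∑ i ∈ t, (polar Q (b i) v • a i - polar Q (a i) v • b i)) = 0 := by
      intro t
      classical
      induction t using Finset.induction_on with
      | empty => rw [Finset.sum_empty, polar_zero_right]
      | insert i t hi iht =>
        rw [Finset.sum_insert hi, polar_add_right, iht, polar_sub_right,
          polar_smul_right, polar_smul_right, polar_comm Q v (a i), polar_comm Q v (b i), smul_eq_mul,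
          smul_eq_mul]
        ring
    exact this _
  refine ⟨T, hT, hJ, ?_⟩
  have hle : comS T ≤ U := by
    intro u hu
    obtain ⟨v, rfl⟩ := mem_comS.1 hu
    exact hmem v
  have hfixle : fixS T ≤ perp Q U := by
    intro v hv
    have h0 : ∑ i, (polar Q (b i) v • bas (Sum.inl i) - polar Q (a i) v • bas (Sum.inr i)) = 0 := by
      apply Subtype.ext
      have h1 := hν v
      rw [mem_fixS.1 hv, sub_self] at h1
      rw [ZeroMemClass.coe_zero, h1, AddSubmonoidClass.coe_finsetSum]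
      rfl
    have h2 : ∑ x : Fin k ⊕ Fin k, (Sum.elim (fun i => polar Q (b i) v) (fun i => - polar Q (a i) v) x) • bas x = 0 := by
      rw [Fintype.sum_sum_type, ← h0, Finset.sum_sub_distrib]
      simp only [Sum.elim_inl, Sum.elim_inr, neg_smul, Finset.sum_neg_distrib]
      abel
    have h3 := Fintype.linearIndependent_iff.1 bas.linearIndependent _ h2
    have h4 : ∀ i, polar Q (b i) v = 0 := fun i => h3 (Sum.inl i)
    have h5 : ∀ i, polar Q (a i) v = 0 := fun i => neg_eq_zero.1 (h3 (Sum.inr i))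
    intro u hu
    have h6 : ∀ x : U, polar Q (x : V) v = 0 := by
      intro x
      have h7 : (polarBilin Q).flip v ∘ₗ U.subtype = 0 := by
        refine bas.ext fun j => ?_
        rcases j with j | j
        · exact h5 j
        · exact h4 j
      exact LinearMap.congr_fun h7 x
    exact h6 ⟨u, hu⟩
  apply Submodule.eq_of_le_of_finrank_le hle
  have h8 := Submodule.finrank_mono hfixle
  have h9 := finrank_fixS_add_comS T
  have h10 := finrank_add_perp hQ U
  omega

end Cfsg.Agent.H958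
end

-- part: H958/EvenN
section
/-!
# The criterion for odd prime order in even dimension, matrix form
-/

set_option autoImplicit false

namespace Cfsg.Agent.H958

open Module QuadraticMap Cfsg.Agent.LieClassical.OrthCore Cfsg.Agent.LieClassical.OrthTrans
  Cfsg.Agent.LieClassical.OrthFinite Cfsg.Agent.H955
open scoped MatrixGroups Matrix

variable {F : Type*} [Field F] [Fintype F] {ι : Type} [Fintype ι] [DecidableEq ι]
  {Q : QuadraticForm F (ι → F)} {r : ℕ} [Fact r.Prime]

/-- even `m` -/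
theorem even_main (hG : Good Q) (hr2 : 2 < r) (hr : (r : F) ≠ 0) {n m' : ℕ}
    (hn : finrank F (ι → F) = n) (hne : Even n) (hm : 0 < m') (hmn : 2 * m' < n) (δ : Prop)
    (hdvd : r ∣ Nat.card {W : Submodule F (ι → F) // finrank F W = 2 * m' ∧ Nondeg (res Q W) ∧
      (IsPlus (res Q W) ↔ δ)}) {c : ℕ} (hc : bk F r = c) :
    ((∀ x : GL ι F, x ∈ Cfsg.Geo.omegaGL ⇑Q →
      (∃ z : F, ((x ^ r : GL ι F) : Matrix ι ι F) = z • (1 : Matrix ι ι F)) →
      (∀ z : F, (x : Matrix ι ι F) ≠ z • (1 : Matrix ι ι F)) →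
      ∃ W : Submodule F (ι → F), (finrank F W = 2 * m' ∧ Nondeg (res Q W) ∧
      (IsPlus (res Q W) ↔ δ)) ∧ W.map (Matrix.toLin' (x : Matrix ι ι F)) ≤ W) ↔
      Crit c n (2 * m') (IsPlus Q ↔ dl F r (n / c)) (δ ↔ dl F r (2 * m' / c))
        ((IsPlus Q ↔ δ) ↔ dl F r ((n - 2 * m') / c))) ∧
    (Crit c n (2 * m') (IsPlus Q ↔ dl F r (n / c)) (δ ↔ dl F r (2 * m' / c))
        ((IsPlus Q ↔ δ) ↔ dl F r ((n - 2 * m') / c)) → c ≤ 2 * m' ∧ c ≤ n - 2 * m') := by
  have hQ := hG.nondeg
  obtain ⟨W, hWn, hWd, hWp⟩ := exists_subspace hQ (by rw [hn]; exact hne) m' hm (by rw [hn]; exact hmn) δ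
  have hWe : Even (finrank F W) := by rw [hWd]; exact even_two_mul _
  have hC : ∀ W' : Submodule F (ι → F), (finrank F W' = 2 * m' ∧ Nondeg (res Q W') ∧
      (IsPlus (res Q W') ↔ δ)) ↔ ∃ g ∈ O Q, W.map (g : (ι → F) →ₗ[F] (ι → F)) = W' := by
    intro W'
    rw [← class_even hQ hWn hWe, hWd, hWp]
  obtain ⟨h1, h2⟩ := main hr2 hr hQ hWn (by omega) (by omega)
    (Or.inl ⟨by rw [hn]; exact hne, hWe⟩) _ hC hdvd
  have hd := finrank_add_perp hQ W
  have hPd : finrank F (perp Q W) = n - 2 * m' := by omega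
  have htop : IsPlus (res Q (⊤ : Submodule F (ι → F))) ↔ IsPlus Q :=
    isPlus_iff_of_equiv (LinearEquiv.ofTop ⊤ rfl) (fun _ => rfl)
  have hPp : IsPlus (res Q (perp Q W)) ↔ (IsPlus Q ↔ δ) := by
    have := isPlus_iff_perp hQ hWn (by rw [hn]; exact hne) hWe
    rw [hWp] at this
    rw [this]
    tauto
  have e1 : AA Q r ⊤ ↔ (IsPlus Q ↔ dl F r (n / c)) := by rw [AA, finrank_top, hn, hc, htop]
  have e2 : AA Q r W ↔ (δ ↔ dl F r (2 * m' / c)) := by rw [AA, hWd, hc, hWp]
  have e3 : AA Q r (perp Q W) ↔ ((IsPlus Q ↔ δ) ↔ dl F r ((n - 2 * m') / c)) := by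
    rw [AA, hPd, hc, hPp]
  rw [hn, hWd, hc, propext e1, propext e2, propext e3] at h1 h2
  exact ⟨(transfer_odd hG ((Fact.out : r.Prime).odd_of_ne_two (by omega)) _).trans h1, h2⟩

/-- odd `m` -/
theorem odd_main (hG : Good Q) (h2 : (2 : F) ≠ 0) (hr2 : 2 < r) (hr : (r : F) ≠ 0) {n m : ℕ}
    (hn : finrank F (ι → F) = n) (hne : Even n) (hm : Odd m) (hmn : m < n)
    {W₀ : Submodule F (ι → F)} (hW₀ : Nondeg (res Q W₀)) (hW₀d : finrank F W₀ = m)
    (hdvd : r ∣ Nat.card {W : Submodule F (ι → F) // finrank F W = m ∧ Nondeg (res Q W) ∧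
      Cfsg.Geo.AreIsometricFor ⇑Q W W₀}) {c : ℕ} (hc : bk F r = c) :
    ((∀ x : GL ι F, x ∈ Cfsg.Geo.omegaGL ⇑Q →
      (∃ z : F, ((x ^ r : GL ι F) : Matrix ι ι F) = z • (1 : Matrix ι ι F)) →
      (∀ z : F, (x : Matrix ι ι F) ≠ z • (1 : Matrix ι ι F)) →
      ∃ W : Submodule F (ι → F), (finrank F W = m ∧ Nondeg (res Q W) ∧
      Cfsg.Geo.AreIsometricFor ⇑Q W W₀) ∧ W.map (Matrix.toLin' (x : Matrix ι ι F)) ≤ W) ↔
      ((n % c = 0 ∧ ¬ (IsPlus Q ↔ dl F r (n / c))) ∨ (0 < m % c ∧ m % c < n % c))) ∧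
    (((n % c = 0 ∧ ¬ (IsPlus Q ↔ dl F r (n / c))) ∨ (0 < m % c ∧ m % c < n % c)) →
      c ≤ m ∧ c ≤ n - m) := by
  have hQ := hG.nondeg
  have hC : ∀ W' : Submodule F (ι → F), (finrank F W' = m ∧ Nondeg (res Q W') ∧
      Cfsg.Geo.AreIsometricFor ⇑Q W' W₀) ↔
        ∃ g ∈ O Q, W₀.map (g : (ι → F) →ₗ[F] (ι → F)) = W' := by
    intro W'
    rw [← class_isom hQ hW₀, hW₀d]
  obtain ⟨h1, h3⟩ := main hr2 hr hQ hW₀ (by rw [hW₀d]; exact hm.pos) (by omega) (Or.inr h2) _ hC hdvd
  have htop : IsPlus (res Q (⊤ : Submodule F (ι → F))) ↔ IsPlus Q :=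
    isPlus_iff_of_equiv (LinearEquiv.ofTop ⊤ rfl) (fun _ => rfl)
  have e1 : AA Q r ⊤ ↔ (IsPlus Q ↔ dl F r (n / c)) := by rw [AA, finrank_top, hn, hc, htop]
  rw [hn, hW₀d, hc, propext e1] at h1 h3
  have hce : Even c := by rw [← hc]; exact bk_even F r
  have hc0 : 0 < c := by rw [← hc]; exact bk_pos hr
  obtain ⟨c', hc'⟩ := hce
  obtain ⟨n', hn'⟩ := hne
  obtain ⟨m', hm'⟩ := hm
  have hn1 : n % c % 2 = 0 := by
    rw [Nat.mod_mod_of_dvd _ (by rw [hc']; exact ⟨c', by ring⟩)]; omega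
  have hm3 : m % c % 2 = 1 := by
    rw [Nat.mod_mod_of_dvd _ (by rw [hc']; exact ⟨c', by ring⟩)]; omega
  have key : Crit c n m (IsPlus Q ↔ dl F r (n / c)) (AA Q r W₀) (AA Q r (perp Q W₀)) ↔
      ((n % c = 0 ∧ ¬ (IsPlus Q ↔ dl F r (n / c))) ∨ (0 < m % c ∧ m % c < n % c)) := by
    unfold Crit
    constructor
    · rintro (⟨h, h', -⟩ | ⟨h, -, h'⟩ | ⟨h, h', -⟩ | ⟨h, h'⟩ | ⟨h, h', -⟩)
      · omega
      · exact Or.inl ⟨h, h'⟩
      · omega
      · exact Or.inr ⟨h, h'⟩
      · omega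
    · rintro (⟨h, h'⟩ | ⟨h, h'⟩)
      · exact Or.inr (Or.inl ⟨h, by omega, h'⟩)
      · exact Or.inr (Or.inr (Or.inr (Or.inl ⟨h, h'⟩)))
  rw [key] at h1 h3
  exact ⟨(transfer_odd hG ((Fact.out : r.Prime).odd_of_ne_two (by omega)) _).trans h1, h3⟩

end Cfsg.Agent.H958
end

-- part: H958/FourStruct
section
/-!
# Isometries with square `-1`: structure and existence
-/

set_option autoImplicit false

namespace Cfsg.Agent.H958

open Module QuadraticMap Cfsg.Agent.LieClassical.OrthCore Cfsg.Agent.LieClassical.OrthTrans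
  Cfsg.Agent.H955

universe u v
variable {F : Type u} [Field F]

section Inv

variable {V : Type v} [AddCommGroup V] [Module F V] {Q : QuadraticForm F V}

/-- an invariant subspace of an invariant subspace -/
theorem inv_map_subtype {T : V ≃ₗ[F] V} {U : Submodule F V} (hU : ∀ v ∈ U, T v ∈ U)
    [FiniteDimensional F V] {W : Submodule F U} (hW : ∀ w ∈ W, resT T U hU w ∈ W) :
    ∀ w ∈ W.map U.subtype, T w ∈ W.map U.subtype := by
  rintro _ ⟨w, hw, rfl⟩
  exact ⟨_, hW w hw, rfl⟩

theorem inv_sup {T : V ≃ₗ[F] V} {A B : Submodule F V} (hA : ∀ v ∈ A, T v ∈ A) (hB : ∀ v ∈ B, T v ∈ B) :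
    ∀ v ∈ A ⊔ B, T v ∈ A ⊔ B := by
  intro v hv
  obtain ⟨a, ha, b, hb, rfl⟩ := Submodule.mem_sup.1 hv
  rw [map_add]
  exact Submodule.add_mem_sup (hA a ha) (hB b hb)

theorem map_subtype_le_perp {U : Submodule F V} (W : Submodule F (perp Q U)) :
    W.map (perp Q U).subtype ≤ perp Q U := Submodule.map_subtype_le _ _

/-- the plane `⟨v, T v⟩` -/
theorem plane_props [FiniteDimensional F V] (h2 : (2 : F) ≠ 0) {T : V ≃ₗ[F] V} (hT : T ∈ O Q)
    (hTT : ∀ v, T (T v) = -v) {v : V} (hv : Q v ≠ 0) :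
    ∃ P : Submodule F V, (∀ w ∈ P, T w ∈ P) ∧ Nondeg (res Q P) ∧ finrank F P = 2 ∧
      (IsPlus (res Q P) ↔ IsSquare (-1 : F)) := by
  have hpol : polar Q v (T v) = 0 := by
    have h1 := polar_map hT v (T v)
    rw [hTT, polar_neg_right, polar_comm] at h1
    have h3 : (2 : F) * polar Q v (T v) = 0 := by
      rw [two_mul]
      nth_rewrite 1 [← h1]
      exact neg_add_cancel _
    exact (mul_eq_zero.1 h3).resolve_left h2
  have hTv : Q (T v) ≠ 0 := by rw [hT]; exact hv
  have hle : (F ∙ T v) ≤ perp Q (F ∙ v) := by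
    rw [Submodule.span_singleton_le_iff_mem]
    intro w hw
    obtain ⟨c, rfl⟩ := Submodule.mem_span_singleton.1 hw
    rw [polar_smul_left, hpol, smul_zero]
  have hn := nondeg_span h2 hv
  have hP : Nondeg (res Q (F ∙ v ⊔ F ∙ T v)) := nondeg_sup hn (nondeg_span h2 hTv) hle
  have hd : finrank F ↥(F ∙ v ⊔ F ∙ T v) = 2 := by
    rw [finrank_sup_perp hn hle, finrank_span_aniso hv, finrank_span_aniso hTv]
  have hmem : ∀ w ∈ F ∙ v ⊔ F ∙ T v, ∃ a b : F, w = a • v + b • T v := by
    intro w hw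
    obtain ⟨x, hx, y, hy, rfl⟩ := Submodule.mem_sup.1 hw
    obtain ⟨a, rfl⟩ := Submodule.mem_span_singleton.1 hx
    obtain ⟨b, rfl⟩ := Submodule.mem_span_singleton.1 hy
    exact ⟨a, b, rfl⟩
  have hQ : ∀ a b : F, Q (a • v + b • T v) = (a * a + b * b) * Q v := by
    intro a b
    rw [Q_add, QuadraticMap.map_smul, QuadraticMap.map_smul, polar_smul_left, polar_smul_right, hpol,
      hT]
    simp only [smul_eq_mul]
    ring
  refine ⟨_, ?_, hP, hd, ?_⟩
  · intro w hw
    obtain ⟨a, b, rfl⟩ := hmem w hw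
    rw [map_add, map_smul, map_smul, hTT, add_comm]
    refine Submodule.add_mem_sup ?_ ?_
    · exact Submodule.smul_mem _ _ (Submodule.neg_mem _ (Submodule.mem_span_singleton_self v))
    · exact Submodule.smul_mem _ _ (Submodule.mem_span_singleton_self _)
  · constructor
    · rintro ⟨U, hU, hUd⟩
      rw [hd] at hUd
      obtain ⟨x, hx, hx0⟩ := exists_ne_zero_of_finrank_pos (U := U) (by omega)
      obtain ⟨a, b, hab⟩ := hmem x x.2
      have h3 : Q (x : V) = 0 := hU x hx
      rw [hab, hQ] at h3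
      have h4 := (mul_eq_zero.1 h3).resolve_right hv
      have hb : b ≠ 0 := by
        rintro rfl
        have ha : a = 0 := by
          rw [mul_zero, add_zero] at h4
          exact mul_self_eq_zero.1 h4
        apply hx0
        apply Subtype.ext
        rw [hab, ha, zero_smul, zero_smul, add_zero]
        rfl
      refine ⟨a / b, ?_⟩
      field_simp
      linear_combination (-1 : F) * h4
    · rintro ⟨s, hs⟩
      have hx : s • v + T v ∈ F ∙ v ⊔ F ∙ T v :=
        Submodule.add_mem_sup (Submodule.smul_mem _ _ (Submodule.mem_span_singleton_self v))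
          (Submodule.mem_span_singleton_self _)
      have hQx : Q (s • v + T v) = 0 := by
        have := hQ s 1
        rw [one_smul] at this
        rw [this, ← hs]; ring
      refine isPlus_of_le hP (U := F ∙ (⟨_, hx⟩ : ↥(F ∙ v ⊔ F ∙ T v))) ?_ ?_
      · intro u hu
        obtain ⟨c, rfl⟩ := Submodule.mem_span_singleton.1 hu
        rw [QuadraticMap.map_smul]
        have : res Q _ (⟨_, hx⟩ : ↥(F ∙ v ⊔ F ∙ T v)) = 0 := hQx
        rw [this, smul_zero]
      · rw [hd, finrank_span_singleton]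
        intro h0
        have h1 := congrArg Subtype.val h0
        have h1' : s • v + T v = 0 := h1
        have h5 : polar Q (T v) (s • v + T v) = 0 := by rw [h1', polar_zero_right]
        rw [polar_add_right, polar_smul_right, polar_comm, hpol, smul_zero, zero_add, polar_self'] at h5
        exact mul_ne_zero h2 hTv h5

end Inv

/-- **structure** of an isometry with square `-1` -/
theorem four_struct [Finite F] (h2 : (2 : F) ≠ 0) (n : ℕ) :
    ∀ {V : Type v} [AddCommGroup V] [Module F V] [FiniteDimensional F V] {Q : QuadraticForm F V},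
    Nondeg Q → finrank F V = n → ∀ {T : V ≃ₗ[F] V}, T ∈ O Q → (∀ v, T (T v) = -v) →
    Even n ∧ (∀ k, 2 * k ≤ n → ∃ W : Submodule F V, (∀ w ∈ W, T w ∈ W) ∧ Nondeg (res Q W) ∧
      finrank F W = 2 * k) ∧ (IsPlus Q ↔ (IsSquare (-1 : F) ∨ Even (n / 2))) := by
  induction n using Nat.strong_induction_on with
  | _ n ih =>
  intro V _ _ _ Q hQ hn T hT hTT
  rcases Nat.eq_zero_or_pos n with hn0 | hn0
  · subst hn0
    refine ⟨Even.zero, ?_, iff_of_true (isPlus_of_finrank_zero hn) (Or.inr (by decide))⟩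
    intro k hk
    refine ⟨⊥, ?_, ?_, by rw [finrank_bot]; omega⟩
    · intro w hw
      rw [Submodule.mem_bot] at hw ⊢
      rw [hw, map_zero]
    · rw [nondeg_res_iff]
      intro x hx _
      exact (Submodule.mem_bot F).1 hx
  obtain ⟨v, hv⟩ := exists_aniso_vec hQ (by omega)
  obtain ⟨P, hPT, hP, hPd, hPp⟩ := plane_props h2 hT hTT hv
  have hd := finrank_add_perp hQ P
  have hP' := map_mem_perp hT hPT
  have hPn := nondeg_perp hQ hP
  obtain ⟨h1, h3, h4⟩ := ih (n - 2) (by omega) hPn (by omega) (resT_mem hT hP')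
    (fun w => Subtype.ext (hTT w))
  have hne : Even n := by
    obtain ⟨k, hk⟩ := h1
    exact ⟨k + 1, by omega⟩
  refine ⟨hne, ?_, ?_⟩
  · intro k hk
    rcases Nat.eq_zero_or_pos k with hk0 | hk0
    · subst hk0
      refine ⟨⊥, ?_, ?_, by rw [finrank_bot]⟩
      · intro w hw
        rw [Submodule.mem_bot] at hw ⊢
        rw [hw, map_zero]
      · rw [nondeg_res_iff]
        intro x hx _
        exact (Submodule.mem_bot F).1 hx
    · obtain ⟨W, hWT, hW, hWd⟩ := h3 (k - 1) (by omega)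
      obtain ⟨e, he⟩ := exists_res_equiv (Q := Q) (perp Q P) W
      have hle := map_subtype_le_perp W
      refine ⟨P ⊔ W.map (perp Q P).subtype, inv_sup hPT (inv_map_subtype hP' hWT),
        nondeg_sup hP (nondeg_of_equiv e he hW) hle, ?_⟩
      rw [finrank_sup_perp hP hle, hPd, ← e.finrank_eq, hWd]
      omega
  · rw [isPlus_iff_perp hQ hP (by rw [hn]; exact hne) (by rw [hPd]; decide), hPp, h4]
    have h5 : (n - 2) / 2 = n / 2 - 1 := by omega
    obtain ⟨k, hk⟩ := hne
    have h6 : Even (n / 2) ↔ ¬ Even ((n - 2) / 2) := by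
      rw [h5]
      have : n / 2 = (n / 2 - 1) + 1 := by omega
      conv_lhs => rw [this]
      rw [Nat.even_add_one]
    rw [h6]
    tauto

/-- an isometry with square `-1` lies in `E Q` if 2 is a square -/
theorem mem_E_of_two [Finite F] {V : Type v} [AddCommGroup V] [Module F V] [FiniteDimensional F V]
    {Q : QuadraticForm F V} (h2 : (2 : F) ≠ 0) (hG : Good Q) {T : V ≃ₗ[F] V} (hT : T ∈ O Q)
    (hTT : ∀ v, T (T v) = -v) (hsq : IsSquare (2 : F)) : T ∈ E Q := by
  obtain ⟨s, hs⟩ := hsq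
  have hs0 : s ≠ 0 := by
    rintro rfl
    rw [mul_zero] at hs
    exact h2 hs
  have hss : s⁻¹ * s⁻¹ * 2 = 1 := by rw [hs]; field_simp
  let f : V →ₗ[F] V := s⁻¹ • (LinearMap.id + (T : V →ₗ[F] V))
  let g : V →ₗ[F] V := s⁻¹ • (LinearMap.id - (T : V →ₗ[F] V))
  have hf : ∀ v, f v = s⁻¹ • (v + T v) := fun _ => rfl
  have hg : ∀ v, g v = s⁻¹ • (v - T v) := fun _ => rfl
  let y : V ≃ₗ[F] V := LinearEquiv.ofLinearMap f g (by
    ext v
    change f (g v) = v
    rw [hf, hg, map_smul, map_sub, hTT, ← smul_add, smul_smul]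
    have : v - T v + (T v - -v) = (2 : F) • v := by rw [two_smul]; abel
    rw [this, smul_smul, hss, one_smul]) (by
    ext v
    change g (f v) = v
    rw [hf, hg, map_smul, map_add, hTT, ← smul_sub, smul_smul]
    have : v + T v - (T v + -v) = (2 : F) • v := by rw [two_smul]; abel
    rw [this, smul_smul, hss, one_smul])
  have hy : ∀ v, y v = s⁻¹ • (v + T v) := fun _ => rfl
  have hpol : ∀ v, polar Q v (T v) = 0 := by
    intro v
    have h1 := polar_map hT v (T v)
    rw [hTT, polar_neg_right, polar_comm] at h1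
    have h3 : (2 : F) * polar Q v (T v) = 0 := by
      rw [two_mul]
      nth_rewrite 1 [← h1]
      exact neg_add_cancel _
    exact (mul_eq_zero.1 h3).resolve_left h2
  have hyO : y ∈ O Q := by
    intro v
    rw [hy, QuadraticMap.map_smul, Q_add, hpol, hT, add_zero, smul_eq_mul, ← two_mul, ← mul_assoc, hss,
      one_mul]
  have hyy : T = y * y := by
    ext v
    rw [LinearEquiv.mul_apply, hy, hy, map_smul, map_add, hTT, ← smul_add, smul_smul]
    have : v + T v + (T v + -v) = (2 : F) • T v := by rw [two_smul]; abel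
    rw [this, smul_smul, hss, one_smul]
  rw [hyy]
  exact sq_mem_E hG hyO

end Cfsg.Agent.H958
end

-- part: H958/FourExists
section
/-!
# Existence of isometries with square `-1`
-/

set_option autoImplicit false

namespace Cfsg.Agent.H958

open Module QuadraticMap Cfsg.Agent.LieClassical.OrthCore Cfsg.Agent.LieClassical.OrthTrans
  Cfsg.Agent.H955
open scoped commutatorElement

universe u v w
variable {F : Type u} [Field F]

section Conj

variable {V : Type v} [AddCommGroup V] [Module F V] {Q : QuadraticForm F V}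
  {V' : Type w} [AddCommGroup V'] [Module F V'] {Q' : QuadraticForm F V'}

/-- transport of automorphisms -/
def cj (e : V ≃ₗ[F] V') (T : V' ≃ₗ[F] V') : V ≃ₗ[F] V := e.trans (T.trans e.symm)

theorem cj_apply (e : V ≃ₗ[F] V') (T : V' ≃ₗ[F] V') (v : V) : cj e T v = e.symm (T (e v)) := rfl

theorem cj_mul (e : V ≃ₗ[F] V') (S T : V' ≃ₗ[F] V') : cj e (S * T) = cj e S * cj e T := by
  ext v
  rw [LinearEquiv.mul_apply, cj_apply, cj_apply, cj_apply, LinearEquiv.apply_symm_apply]
  rfl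

theorem cj_mem_O {e : V ≃ₗ[F] V'} (he : ∀ v, Q' (e v) = Q v) {T : V' ≃ₗ[F] V'} (hT : T ∈ O Q') :
    cj e T ∈ O Q := by
  intro v
  rw [cj_apply, ← he, LinearEquiv.apply_symm_apply, hT, he]

end Conj

/-- the sum of squares -/
def sqForm (F : Type u) [Field F] (d : ℕ) : QuadraticForm F (Fin d → F) :=
  ∑ i : Fin d, QuadraticMap.linMulLin (LinearMap.proj i) (LinearMap.proj i)

theorem sqForm_apply (d : ℕ) (x : Fin d → F) : sqForm F d x = ∑ i, x i * x i := by
  simp [sqForm]

theorem nondeg_sqForm (h2 : (2 : F) ≠ 0) (d : ℕ) : Nondeg (sqForm F d) := by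
  intro x hx
  funext i
  have h1 := hx (Pi.single i 1)
  have h3 : polar (sqForm F d) x (Pi.single i 1) = 2 * x i := by
    simp only [polar, sqForm_apply]
    rw [← Finset.sum_sub_distrib, ← Finset.sum_sub_distrib, Finset.sum_eq_single i]
    · rw [Pi.add_apply, Pi.single_eq_same]; ring
    · intro j _ hj
      rw [Pi.add_apply, Pi.single_eq_of_ne hj]; ring
    · intro h
      exact absurd (Finset.mem_univ i) h
  rw [h3] at h1
  exact (mul_eq_zero.1 h1).resolve_left h2

/-- `(x, y) ↦ (-y, x)` -/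
def rot (M : Type*) [AddCommGroup M] [Module F M] : (M × M) ≃ₗ[F] (M × M) where
  toFun p := (-p.2, p.1)
  invFun p := (p.2, -p.1)
  map_add' p p' := by
    refine Prod.ext ?_ rfl
    change -(p.2 + p'.2) = -p.2 + -p'.2
    abel
  map_smul' c p := by
    refine Prod.ext ?_ rfl
    change -(c • p.2) = c • -p.2
    rw [smul_neg]
  left_inv p := Prod.ext rfl (neg_neg _)
  right_inv p := Prod.ext (neg_neg _) rfl

/-- the model -/
theorem exists_rot [Finite F] (h2 : (2 : F) ≠ 0) (d : ℕ) :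
    ∃ (X : Type u) (_ : AddCommGroup X) (_ : Module F X) (_ : FiniteDimensional F X)
      (R : QuadraticForm F X), Nondeg R ∧ finrank F X = 2 * d ∧
      ∃ T ∈ O R, ∀ v, T (T v) = -v := by
  refine ⟨(Fin d → F) × (Fin d → F), inferInstance, inferInstance, inferInstance,
    osum (sqForm F d) (sqForm F d), nondeg_osum (nondeg_sqForm h2 d) (nondeg_sqForm h2 d), ?_,
    rot (Fin d → F), ?_, ?_⟩
  · rw [Module.finrank_prod, Module.finrank_fin_fun]; ring
  · rintro ⟨x, y⟩
    change osum (sqForm F d) (sqForm F d) (-y, x) = _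
    rw [osum_apply, osum_apply, QuadraticMap.map_neg]
    ring
  · intro p
    rfl

/-- **existence** of an element of `E Q` with square `-1` -/
theorem exists_four [Finite F] {V : Type v} [AddCommGroup V] [Module F V] [FiniteDimensional F V]
    {Q : QuadraticForm F V} (h2 : (2 : F) ≠ 0) (hG : Good Q) {d : ℕ} (hd : finrank F V = 2 * d)
    (hP : IsPlus Q ↔ (IsSquare (-1 : F) ∨ Even d)) (h : Even d ∨ IsSquare (2 : F)) :
    ∃ T ∈ E Q, ∀ v, T (T v) = -v := by
  have hVe : Even (finrank F V) := by rw [hd]; exact even_two_mul d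
  by_cases hsq : IsSquare (2 : F)
  · obtain ⟨X, _, _, _, R, hR, hRd, T, hT, hTT⟩ := exists_rot (F := F) h2 d
    obtain ⟨-, -, h3⟩ := four_struct h2 _ hR hRd hT hTT
    obtain ⟨e, he⟩ := exists_equiv_of_isPlus_iff hG.nondeg hR hVe (by rw [hd, hRd]) (by
      rw [hP, h3, Nat.mul_div_cancel_left _ (by norm_num)])
    have hc : ∀ v, cj e T (cj e T v) = -v := by
      intro v
      rw [cj_apply, cj_apply, LinearEquiv.apply_symm_apply, hTT, map_neg, LinearEquiv.symm_apply_apply]
    exact ⟨cj e T, mem_E_of_two h2 hG (cj_mem_O he hT) hc hsq, hc⟩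
  · have hde : Even d := h.resolve_right hsq
    obtain ⟨k, hk⟩ := hde
    obtain ⟨X, _, _, _, R, hR, hRd, T, hT, hTT⟩ := exists_rot (F := F) h2 k
    have hTT' : ∀ v : X × X, (LinearEquiv.prodCongr T T) ((LinearEquiv.prodCongr T T) v) = -v := by
      rintro ⟨x, y⟩
      exact Prod.ext (hTT x) (hTT y)
    have hO1 : (LinearEquiv.prodCongr T T : (X × X) ≃ₗ[F] (X × X)) ∈ O (osum R R) := by
      rintro ⟨x, y⟩
      change osum R R (T x, T y) = osum R R (x, y)
      rw [osum_apply, osum_apply, hT, hT]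
    have hO2 : (LinearEquiv.prodCongr T 1 : (X × X) ≃ₗ[F] (X × X)) ∈ O (osum R R) := by
      rintro ⟨x, y⟩
      change osum R R (T x, y) = osum R R (x, y)
      rw [osum_apply, osum_apply, hT]
    have hO3 : (LinearEquiv.prodComm F X X) ∈ O (osum R R) := by
      rintro ⟨x, y⟩
      change osum R R (y, x) = osum R R (x, y)
      rw [osum_apply, osum_apply, add_comm]
    have hXX : finrank F (X × X) = 2 * d := by rw [Module.finrank_prod, hRd]; omega
    have hn := nondeg_osum hR hR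
    obtain ⟨-, -, h3⟩ := four_struct h2 _ hn hXX hO1 hTT'
    obtain ⟨e, he⟩ := exists_equiv_of_isPlus_iff hG.nondeg hn hVe (by rw [hd, hXX]) (by
      rw [hP, h3, Nat.mul_div_cancel_left _ (by norm_num)])
    refine ⟨cj e (LinearEquiv.prodCongr T T), ?_, ?_⟩
    · set u' := cj e (LinearEquiv.prodCongr T 1 : (X × X) ≃ₗ[F] (X × X)) with hu'
      set s' := cj e (LinearEquiv.prodComm F X X) with hs'
      have hu : u' ∈ O Q := cj_mem_O he hO2
      have hs : s' ∈ O Q := cj_mem_O he hO3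
      have hss : s' * s' = 1 := by
        rw [hs', ← cj_mul]
        ext v
        change e.symm (LinearEquiv.prodComm F X X (LinearEquiv.prodComm F X X (e v))) = v
        rw [show LinearEquiv.prodComm F X X (LinearEquiv.prodComm F X X (e v)) = e v from rfl,
          LinearEquiv.symm_apply_apply]
      have hsi : s'⁻¹ = s' := inv_eq_of_mul_eq_one_left hss
      have e1 : cj e (LinearEquiv.prodCongr T T : (X × X) ≃ₗ[F] (X × X)) = u' * (s' * u' * s') := by
        rw [hu', hs', ← cj_mul, ← cj_mul, ← cj_mul]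
        rfl
      have e2 : u' * (s' * u' * s') = (u' * u') * ⁅u'⁻¹, s'⁆ := by
        rw [commutatorElement_def, hsi]
        group
      rw [e1, e2]
      exact (E Q).mul_mem (sq_mem_E hG hu)
        (hG.commutator_le_E (Subgroup.commutator_mem_commutator ((O Q).inv_mem hu) hs))
    · intro v
      rw [cj_apply, cj_apply, LinearEquiv.apply_symm_apply, hTT', map_neg,
        LinearEquiv.symm_apply_apply]

end Cfsg.Agent.H958
end

-- part: H958/TwoOdd
section
/-!
# The criterion for `r = 2` in odd characteristic, even dimension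
-/

set_option autoImplicit false

namespace Cfsg.Agent.H958

open Module QuadraticMap Cfsg.Agent.LieClassical.OrthCore Cfsg.Agent.LieClassical.OrthTrans
  Cfsg.Agent.H955 Cfsg.Agent.LieClassical.OrthFinite
open scoped MatrixGroups Matrix

universe u v
variable {F : Type u} [Field F]

theorem isSquare_two_of_mod [Finite F] (h : Nat.card F % 8 = 1 ∨ Nat.card F % 8 = 7) : IsSquare (2 : F) := by
  have := Fintype.ofFinite F
  rw [FiniteField.isSquare_two_iff, ← Nat.card_eq_fintype_card]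
  omega

theorem two_main [Finite F] {V : Type v} [AddCommGroup V] [Module F V] [FiniteDimensional F V]
    {Q : QuadraticForm F V} (h2 : (2 : F) ≠ 0) (hG : Good Q) {d m : ℕ} (hd : finrank F V = 2 * d)
    {W₀ : Submodule F V} (hW₀ : Nondeg (res Q W₀)) (hm : finrank F W₀ = m) (hm0 : 0 < m)
    (hmn : m < 2 * d) :
    (∀ T ∈ E Q, ((∀ v, T (T v) = v) ∨ (∀ v, T (T v) = -v)) → (∀ z : F, ¬ ∀ v, T v = z • v) →
      ∃ g ∈ O Q, ∀ v ∈ W₀.map (g : V →ₗ[F] V), T v ∈ W₀.map (g : V →ₗ[F] V)) ↔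
    (¬ ((IsPlus Q ↔ (IsSquare (-1 : F) ∨ Even d)) ∧ (Even d ∨ IsSquare (2 : F)))) ∨
      (Even m ∧ (IsPlus (res Q W₀) ↔ (IsSquare (-1 : F) ∨ Even (m / 2)))) := by
  have hQ := hG.nondeg
  have hns : ∀ T ∈ O Q, (∀ v, T (T v) = -v) → ∀ z : F, ¬ ∀ v, T v = z • v := by
    intro T hT hTT z hz
    obtain ⟨v, hv⟩ := exists_Q_ne_zero hG
    have h1 := sq_eq_one_of_scalar hG hT hz
    have h3 := hTT v
    rw [hz, hz, smul_smul, h1, one_smul] at h3
    have h4 : (2 : F) • v = 0 := by
      rw [two_smul]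
      nth_rewrite 1 [h3]
      exact neg_add_cancel _
    have h5 := (smul_eq_zero.1 h4).resolve_left h2
    rw [h5, map_zero] at hv
    exact hv rfl
  constructor
  · intro h
    by_contra hcon
    push Not at hcon
    obtain ⟨⟨h1, h3⟩, h4⟩ := hcon
    obtain ⟨T, hT, hTT⟩ := exists_four h2 hG hd h1 h3
    have hTO := E_le_O hT
    obtain ⟨g, hg, hgT⟩ := h T hT (Or.inr hTT) (hns T hTO hTT)
    obtain ⟨h5, -, h6⟩ := four_struct h2 m (nondeg_map hg hW₀) (by rw [finrank_map', hm])
      (resT_mem hTO hgT) (fun w => Subtype.ext (hTT w))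
    rw [isPlus_map hg] at h6
    rcases h4 h5 with ⟨a, b⟩ | ⟨a, b⟩
    · exact not_or.2 b (h6.1 a)
    · exact a (h6.2 b)
  · intro h T hT hTT hsc
    have hTO := E_le_O hT
    rcases hTT with hTT | hTT
    · refine invol_fix h2 hQ (by have := hG.dim; omega) hTO ?_ ?_ ?_ hW₀ (by omega) (by omega)
      · ext v
        rw [pow_two]
        exact hTT v
      · rintro rfl
        exact hsc 1 fun v => (one_smul F v).symm
      · intro h1
        exact hsc (-1) fun v => by rw [h1, neg_smul, one_smul]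
    · obtain ⟨-, h3, h4⟩ := four_struct h2 _ hQ hd hTO hTT
      rw [Nat.mul_div_cancel_left _ (by norm_num)] at h4
      have h5 : Even d ∨ IsSquare (2 : F) := by
        rcases Nat.even_or_odd d with he | ho
        · exact Or.inl he
        · right
          obtain ⟨h6, h7⟩ := mod_eight_of_sq h2 hG hd ho hT hTT
          apply isSquare_two_of_mod
          by_cases hp : IsPlus Q
          · exact Or.inl (h6 hp)
          · exact Or.inr (h7 hp)
      obtain ⟨hme, hmp⟩ := h.resolve_left (not_not.2 ⟨h4, h5⟩)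
      obtain ⟨k, hk⟩ := hme
      obtain ⟨W, hWT, hW, hWd⟩ := h3 k (by omega)
      obtain ⟨-, -, h6⟩ := four_struct h2 _ hW rfl (resT_mem hTO hWT) (fun w => Subtype.ext (hTT w))
      have hdd : finrank F W = finrank F W₀ := by omega
      rw [hdd, hm] at h6
      obtain ⟨g, hg, rfl⟩ := (class_even hQ hW₀ (by rw [hm]; exact ⟨k, hk⟩) W).1
        ⟨hdd, hW, by rw [h6, hmp]⟩
      exact ⟨g, hg, hWT⟩

/-- Transfer for `r = 2`. -/
theorem transfer_two {ι : Type} [Fintype ι] [DecidableEq ι] {Q : QuadraticForm F (ι → F)} [Finite F]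
    (hG : Good Q) {W₀ : Submodule F (ι → F)}
    (C : Submodule F (ι → F) → Prop)
    (hC : ∀ W', C W' ↔ ∃ g ∈ O Q, W₀.map (g : (ι → F) →ₗ[F] (ι → F)) = W') :
    (∀ x : GL ι F, x ∈ Cfsg.Geo.omegaGL ⇑Q →
      (∃ z : F, ((x ^ 2 : GL ι F) : Matrix ι ι F) = z • (1 : Matrix ι ι F)) →
      (∀ z : F, (x : Matrix ι ι F) ≠ z • (1 : Matrix ι ι F)) →
      ∃ W : Submodule F (ι → F), C W ∧ W.map (Matrix.toLin' (x : Matrix ι ι F)) ≤ W) ↔
    (∀ T ∈ E Q, ((∀ v, T (T v) = v) ∨ (∀ v, T (T v) = -v)) → (∀ z : F, ¬ ∀ v, T v = z • v) →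
      ∃ g ∈ O Q, ∀ v ∈ W₀.map (g : (ι → F) →ₗ[F] (ι → F)), T v ∈ W₀.map (g : (ι → F) →ₗ[F] (ι → F))) := by
  constructor
  · intro h T hT hTT hns
    set x := (glEquiv ι F).symm T with hx
    have hxT : glEquiv ι F x = T := MulEquiv.apply_symm_apply _ _
    obtain ⟨W, hCW, hW⟩ := h x ((mem_omegaGL_iff hG x).2 (by rw [hxT]; exact hT)) (by
      rcases hTT with hTT | hTT
      · refine ⟨1, ?_⟩
        rw [scalar_iff]
        intro v
        rw [map_pow, hxT, one_smul, pow_two]
        exact hTT v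
      · refine ⟨-1, ?_⟩
        rw [scalar_iff]
        intro v
        rw [map_pow, hxT, neg_smul, one_smul, pow_two]
        exact hTT v) (by
      intro z hz
      rw [scalar_iff, hxT] at hz
      exact hns z hz)
    obtain ⟨g, hg, rfl⟩ := (hC W).1 hCW
    exact ⟨g, hg, by rw [map_le_iff, hxT] at hW; exact hW⟩
  · rintro h x hx ⟨z, hz⟩ hx1
    have hxE := (mem_omegaGL_iff hG x).1 hx
    have hxO := E_le_O hxE
    rw [scalar_iff, map_pow] at hz
    have hzz := sq_eq_one_of_scalar hG ((O Q).pow_mem hxO 2) hz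
    have hz' : ∀ v, glEquiv ι F x (glEquiv ι F x v) = z • v := by
      intro v
      have := hz v
      rwa [pow_two] at this
    obtain ⟨g, hg, hgW⟩ := h _ hxE (by
      rcases mul_self_eq_one_iff.1 hzz with h1 | h1
      · left
        intro v
        rw [hz', h1, one_smul]
      · right
        intro v
        rw [hz', h1, neg_smul, one_smul]) (by
      intro z hz
      exact hx1 z (scalar_iff.2 hz))
    exact ⟨_, (hC _).2 ⟨g, hg, rfl⟩, by rw [map_le_iff]; exact hgW⟩

end Cfsg.Agent.H958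
end

-- part: H958/NumEven
section
/-!
# Numerical forms of the criterion
-/

set_option autoImplicit false

namespace Cfsg.Agent.H958

variable {c n m : ℕ} {A B C E : Prop}

/-- splitting the criterion according to the residues -/
theorem crit_cases {k l : ℕ} {AV AW AP : Prop} :
    ((k = 0 ∧ l = 0 ∧ (AW ∨ AP)) ∨ (k = 0 ∧ 0 < l ∧ ¬ AV) ∨
    (0 < k ∧ l = 0 ∧ AW) ∨ (0 < l ∧ l < k) ∨ (0 < k ∧ l = k ∧ AP)) ↔
    ((k = 0 → l = 0 → AW ∨ AP) ∧ (k = 0 → 0 < l → ¬ AV) ∧ (0 < k → l = 0 → AW) ∧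
      (0 < k → 0 < l → l = k → AP) ∧ ¬ (0 < k ∧ k < l)) := by
  rcases Nat.eq_zero_or_pos k with h1 | h1
  · rcases Nat.eq_zero_or_pos l with h2 | h2
    · simp [h1, h2]
    · have h3 : l ≠ 0 := by omega
      simp [h1, h2, h3]
  · have h1' : k ≠ 0 := by omega
    rcases Nat.eq_zero_or_pos l with h2 | h2
    · have h3 : (0 : ℕ) ≠ k := by omega
      simp [h1, h1', h2, h3]
    · have h3 : l ≠ 0 := by omega
      rcases lt_trichotomy l k with h4 | h4 | h4
      · have h5 : l ≠ k := by omega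
        have h6 : ¬ k < l := by omega
        simp [h1, h1', h2, h3, h4, h5, h6]
      · subst h4
        simp [h1, h1']
      · have h5 : l ≠ k := by omega
        have h6 : ¬ l < k := by omega
        simp [h1, h1', h2, h3, h4, h5, h6]

/-- plus, plus -/
theorem num_pp_odd (hcm : Crit c n m True True True → c ≤ m) :
    Crit c n m True True True ↔ c ≤ m ∧ m % c ≤ n % c := by
  constructor
  · intro h
    refine ⟨hcm h, ?_⟩
    rcases h with ⟨h, h', -⟩ | ⟨-, -, h⟩ | ⟨h, h', -⟩ | ⟨h, h'⟩ | ⟨h, h', -⟩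
    · omega
    · exact absurd trivial h
    · omega
    · omega
    · omega
  · rintro ⟨-, h⟩
    unfold Crit
    rcases Nat.eq_zero_or_pos (n % c) with h1 | h1
    · exact Or.inl ⟨h1, by omega, Or.inl trivial⟩
    · rcases Nat.eq_zero_or_pos (m % c) with h2 | h2
      · exact Or.inr (Or.inr (Or.inl ⟨h1, h2, trivial⟩))
      · rcases Nat.eq_or_lt_of_le h with h3 | h3
        · exact Or.inr (Or.inr (Or.inr (Or.inr ⟨h1, h3, trivial⟩)))
        · exact Or.inr (Or.inr (Or.inr (Or.inl ⟨h2, h3⟩)))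

theorem num_pp_even (hc : 0 < c) (hmn : m < n)
    (hcm : Crit c n m (Even (n / c)) (Even (m / c)) (Even ((n - m) / c)) → c ≤ m) :
    Crit c n m (Even (n / c)) (Even (m / c)) (Even ((n - m) / c)) ↔
      ((n % c = 0 ∧ (Odd (n / c) ∨ (m % c = 0 ∧ Even (m / c)))) ∨
        (c ≤ m ∧ ((m % c < n % c ∧ 0 < m % c) ∨
                  (n % c = m % c ∧ 0 < m % c ∧ Even ((n + m - 2 * (n % c)) / c)) ∨
                  (0 < n % c ∧ m % c = 0 ∧ Even (m / c))))) := by
  have h1 : m % c = n % c → (Even ((n - m) / c) ↔ (Even (n / c) ↔ Even (m / c))) := fun h =>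
    even_div_sub hc h hmn.le
  have h2 : m % c = n % c → (Even ((n + m - 2 * (n % c)) / c) ↔ (Even (n / c) ↔ Even (m / c))) :=
    fun h => even_div_add hc h
  rw [← Nat.not_even_iff_odd]
  generalize Even (n / c) = EN at *
  generalize Even (m / c) = EM at *
  generalize Even ((n - m) / c) = E1 at *
  generalize Even ((n + m - 2 * (n % c)) / c) = E2 at *
  constructor
  · intro h
    have h3 := hcm h
    rcases h with ⟨h, h', h''⟩ | ⟨h, h', h''⟩ | ⟨h, h', h''⟩ | ⟨h, h'⟩ | ⟨h, h', h''⟩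
    · left
      refine ⟨h, ?_⟩
      have := h1 (by omega)
      tauto
    · exact Or.inl ⟨h, Or.inl h''⟩
    · exact Or.inr ⟨h3, Or.inr (Or.inr ⟨h, h', h''⟩)⟩
    · exact Or.inr ⟨h3, Or.inl ⟨h', h⟩⟩
    · refine Or.inr ⟨h3, Or.inr (Or.inl ⟨h'.symm, by omega, ?_⟩)⟩
      rw [h2 h', ← h1 h']; exact h''
  · rintro (⟨h, h'⟩ | ⟨-, ⟨h, h'⟩ | ⟨h, h', h''⟩ | ⟨h, h', h''⟩⟩)
    · rcases Nat.eq_zero_or_pos (m % c) with h0 | h0
      · left
        refine ⟨h, h0, ?_⟩
        have := h1 (by omega)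
        tauto
      · refine Or.inr (Or.inl ⟨h, h0, ?_⟩)
        rcases h' with h' | ⟨h', -⟩
        · exact h'
        · omega
    · exact Or.inr (Or.inr (Or.inr (Or.inl ⟨h', h⟩)))
    · refine Or.inr (Or.inr (Or.inr (Or.inr ⟨by omega, h.symm, ?_⟩)))
      rw [h1 h.symm, ← h2 h.symm]; exact h''
    · exact Or.inr (Or.inr (Or.inl ⟨h, h', h''⟩))

/-- plus, minus -/
theorem num_pm_odd (hcm : Crit c n m True False False → c ≤ m) :
    Crit c n m True False False ↔ c ≤ m ∧ 0 < m % c ∧ m % c < n % c := by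
  constructor
  · intro h
    refine ⟨hcm h, ?_⟩
    rcases h with ⟨h, h', h'' | h''⟩ | ⟨-, -, h⟩ | ⟨h, h', h''⟩ | ⟨h, h'⟩ | ⟨h, h', h''⟩
    · exact h''.elim
    · exact h''.elim
    · exact absurd trivial h
    · exact h''.elim
    · exact ⟨h, h'⟩
    · exact h''.elim
  · rintro ⟨-, h⟩
    exact Or.inr (Or.inr (Or.inr (Or.inl h)))

theorem num_pm_even (hc : 0 < c) (hmn : m < n)
    (hcm : Crit c n m (Even (n / c)) (¬ Even (m / c)) (¬ Even ((n - m) / c)) → c ≤ m) :
    Crit c n m (Even (n / c)) (¬ Even (m / c)) (¬ Even ((n - m) / c)) ↔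
       ((n % c = 0 ∧ (Odd (n / c) ∨ (m % c = 0 ∧ Odd (m / c)))) ∨
        (c ≤ m ∧ ((0 < m % c ∧ m % c < n % c) ∨
                  (0 < m % c ∧ m % c = n % c ∧ Odd ((n + m - 2 * (n % c)) / c)) ∨
                  (m % c = 0 ∧ 0 < n % c ∧ Odd (m / c))))) := by
  have h1 : m % c = n % c → (Even ((n - m) / c) ↔ (Even (n / c) ↔ Even (m / c))) := fun h =>
    even_div_sub hc h hmn.le
  have h2 : m % c = n % c → (Even ((n + m - 2 * (n % c)) / c) ↔ (Even (n / c) ↔ Even (m / c))) :=
    fun h => even_div_add hc h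
  rw [← Nat.not_even_iff_odd, ← Nat.not_even_iff_odd, ← Nat.not_even_iff_odd]
  generalize Even (n / c) = EN at *
  generalize Even (m / c) = EM at *
  generalize Even ((n - m) / c) = E1 at *
  generalize Even ((n + m - 2 * (n % c)) / c) = E2 at *
  constructor
  · intro h
    have h3 := hcm h
    rcases h with ⟨h, h', h''⟩ | ⟨h, h', h''⟩ | ⟨h, h', h''⟩ | ⟨h, h'⟩ | ⟨h, h', h''⟩
    · left
      refine ⟨h, ?_⟩
      have := h1 (by omega)
      tauto
    · exact Or.inl ⟨h, Or.inl h''⟩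
    · exact Or.inr ⟨h3, Or.inr (Or.inr ⟨h', h, h''⟩)⟩
    · exact Or.inr ⟨h3, Or.inl ⟨h, h'⟩⟩
    · refine Or.inr ⟨h3, Or.inr (Or.inl ⟨by omega, h', ?_⟩)⟩
      rw [h2 h', ← h1 h']; exact h''
  · rintro (⟨h, h'⟩ | ⟨-, ⟨h, h'⟩ | ⟨h, h', h''⟩ | ⟨h, h', h''⟩⟩)
    · rcases Nat.eq_zero_or_pos (m % c) with h0 | h0
      · left
        refine ⟨h, h0, ?_⟩
        have := h1 (by omega)
        tauto
      · refine Or.inr (Or.inl ⟨h, h0, ?_⟩)
        rcases h' with h' | ⟨h', -⟩
        · exact h'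
        · omega
    · exact Or.inr (Or.inr (Or.inr (Or.inl ⟨h, h'⟩)))
    · refine Or.inr (Or.inr (Or.inr (Or.inr ⟨by omega, h', ?_⟩)))
      rw [h1 h', ← h2 h']; exact h''
    · exact Or.inr (Or.inr (Or.inl ⟨h', h, h''⟩))

/-- minus, minus -/
theorem num_mm_odd (hcm : Crit c n m False False True → c ≤ m) :
    Crit c n m False False True ↔ (n % c = 0 ∨ (c ≤ m ∧ 0 < m % c ∧ m % c ≤ n % c)) := by
  constructor
  · intro h
    have h3 := hcm h
    rcases h with ⟨h, -, -⟩ | ⟨h, -, -⟩ | ⟨-, -, h⟩ | ⟨h, h'⟩ | ⟨h, h', -⟩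
    · exact Or.inl h
    · exact Or.inl h
    · exact h.elim
    · exact Or.inr ⟨h3, h, h'.le⟩
    · exact Or.inr ⟨h3, by omega, by omega⟩
  · rintro (h | ⟨-, h, h'⟩)
    · rcases Nat.eq_zero_or_pos (m % c) with h0 | h0
      · exact Or.inl ⟨h, h0, Or.inr trivial⟩
      · exact Or.inr (Or.inl ⟨h, h0, not_false⟩)
    · rcases Nat.eq_or_lt_of_le h' with h1 | h1
      · exact Or.inr (Or.inr (Or.inr (Or.inr ⟨by omega, h1, trivial⟩)))
      · exact Or.inr (Or.inr (Or.inr (Or.inl ⟨h, h1⟩)))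

theorem num_mm_even (hc : 0 < c) (hmn : m < n)
    (hcm : Crit c n m (¬ Even (n / c)) (¬ Even (m / c)) (Even ((n - m) / c)) → c ≤ m) :
    Crit c n m (¬ Even (n / c)) (¬ Even (m / c)) (Even ((n - m) / c)) ↔
       ((n % c = 0 ∧ (Even (n / c) ∨ (m % c = 0 ∧ Odd (m / c)))) ∨
        (0 < n % c ∧ c ≤ m ∧ ((0 < m % c ∧ m % c < n % c) ∨ (m % c = 0 ∧ Odd (m / c)) ∨
                             (m % c = n % c ∧ Even ((n + m - 2 * (n % c)) / c))))) := by
  have h1 : m % c = n % c → (Even ((n - m) / c) ↔ (Even (n / c) ↔ Even (m / c))) := fun h =>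
    even_div_sub hc h hmn.le
  have h2 : m % c = n % c → (Even ((n + m - 2 * (n % c)) / c) ↔ (Even (n / c) ↔ Even (m / c))) :=
    fun h => even_div_add hc h
  rw [← Nat.not_even_iff_odd]
  generalize Even (n / c) = EN at *
  generalize Even (m / c) = EM at *
  generalize Even ((n - m) / c) = E1 at *
  generalize Even ((n + m - 2 * (n % c)) / c) = E2 at *
  constructor
  · intro h
    have h3 := hcm h
    rcases h with ⟨h, h', h''⟩ | ⟨h, h', h''⟩ | ⟨h, h', h''⟩ | ⟨h, h'⟩ | ⟨h, h', h''⟩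
    · left
      refine ⟨h, ?_⟩
      have := h1 (by omega)
      tauto
    · exact Or.inl ⟨h, Or.inl (not_not.1 h'')⟩
    · exact Or.inr ⟨h, h3, Or.inr (Or.inl ⟨h', h''⟩)⟩
    · exact Or.inr ⟨by omega, h3, Or.inl ⟨h, h'⟩⟩
    · refine Or.inr ⟨h, h3, Or.inr (Or.inr ⟨h', ?_⟩)⟩
      rw [h2 h', ← h1 h']; exact h''
  · rintro (⟨h, h'⟩ | ⟨h0, -, ⟨h, h'⟩ | ⟨h, h'⟩ | ⟨h, h'⟩⟩)
    · rcases Nat.eq_zero_or_pos (m % c) with h0 | h0
      · left
        refine ⟨h, h0, ?_⟩
        have := h1 (by omega)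
        tauto
      · refine Or.inr (Or.inl ⟨h, h0, ?_⟩)
        rcases h' with h' | ⟨h', -⟩
        · exact not_not.2 h'
        · omega
    · exact Or.inr (Or.inr (Or.inr (Or.inl ⟨h, h'⟩)))
    · exact Or.inr (Or.inr (Or.inl ⟨h0, h, h'⟩))
    · refine Or.inr (Or.inr (Or.inr (Or.inr ⟨h0, h, ?_⟩)))
      rw [h1 h, ← h2 h]; exact h'

end Cfsg.Agent.H958
end

-- part: H958/TransP
section
/-!
# Negative results for elements of order `p`
-/

set_option autoImplicit false

namespace Cfsg.Agent.H958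

open Module QuadraticMap Cfsg.Agent.LieClassical.OrthCore Cfsg.Agent.LieClassical.OrthTrans
  Cfsg.Agent.H955 Cfsg.Agent.LieClassical.OrthFinite
open scoped MatrixGroups Matrix

universe u v
variable {F : Type u} [Field F]

/-- a counterexample disproves the left hand side. -/
theorem not_of_elt {ι : Type} [Fintype ι] [DecidableEq ι] {Q : QuadraticForm F (ι → F)}
    (hG : Good Q) {r : ℕ} (C : Submodule F (ι → F) → Prop) {T : (ι → F) ≃ₗ[F] (ι → F)} (hT : T ∈ E Q)
    (hTr : T ^ r = 1) (hns : ∀ z : F, ¬ ∀ v, T v = z • v)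
    (hno : ∀ W, C W → (∀ v ∈ W, T v ∈ W) → False) :
    ¬ (∀ x : GL ι F, x ∈ Cfsg.Geo.omegaGL ⇑Q →
      (∃ z : F, ((x ^ r : GL ι F) : Matrix ι ι F) = z • (1 : Matrix ι ι F)) →
      (∀ z : F, (x : Matrix ι ι F) ≠ z • (1 : Matrix ι ι F)) →
      ∃ W : Submodule F (ι → F), C W ∧ W.map (Matrix.toLin' (x : Matrix ι ι F)) ≤ W) := by
  intro h
  set x := (glEquiv ι F).symm T with hx
  have hxT : glEquiv ι F x = T := MulEquiv.apply_symm_apply _ _
  obtain ⟨W, hCW, hW⟩ := h x ((mem_omegaGL_iff hG x).2 (by rw [hxT]; exact hT)) ⟨1, by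
    rw [scalar_iff]
    intro v
    rw [map_pow, hxT, hTr, one_smul]; rfl⟩ (by
    intro z hz
    rw [scalar_iff, hxT] at hz
    exact hns z hz)
  exact hno W hCW (by rw [map_le_iff, hxT] at hW; exact hW)

variable {V : Type v} [AddCommGroup V] [Module F V] [FiniteDimensional F V] {Q : QuadraticForm F V}

omit [FiniteDimensional F V] in
/-- totally singular subspaces -/
theorem exists_tsing_le {U : Submodule F V} (hU : ∀ u ∈ U, Q u = 0) {k : ℕ} (hk : k ≤ finrank F U)
    [FiniteDimensional F V] : ∃ U' : Submodule F V, (∀ u ∈ U', Q u = 0) ∧ finrank F U' = k := by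
  let b := Module.finBasis F U
  have hli : LinearIndependent F (fun i : Fin k => b (Fin.castLE hk i)) :=
    b.linearIndependent.comp _ (Fin.castLE_injective hk)
  refine ⟨(Submodule.span F (Set.range fun i : Fin k => b (Fin.castLE hk i))).map U.subtype, ?_, ?_⟩
  · rintro _ ⟨u, -, rfl⟩
    exact hU u u.2
  · rw [Submodule.finrank_map_subtype_eq, finrank_span_eq_card hli, Fintype.card_fin]

/-- totally singular subspaces of dimension `d - 1` -/
theorem exists_tsing [Finite F] (hQ : Nondeg Q) {d k : ℕ} (hd : finrank F V = 2 * d) (hk0 : 0 < k)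
    (hk : k < d) : ∃ U : Submodule F V, (∀ u ∈ U, Q u = 0) ∧ finrank F U = k := by
  obtain ⟨X, hX, hXd, hXp⟩ := exists_subspace hQ (by rw [hd]; exact even_two_mul d) k hk0
    (by rw [hd]; omega) True
  obtain ⟨U, hU, hUd⟩ := hXp.2 trivial
  refine ⟨U.map X.subtype, ?_, ?_⟩
  · rintro _ ⟨u, hu, rfl⟩
    exact hU u hu
  · rw [Submodule.finrank_map_subtype_eq]
    omega

end Cfsg.Agent.H958
end
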